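/-
Characters on the powers of an element `x` with `x ^ p = 1`: Fourier analysis on `ZMod p`.
-/
import Cfsg.Agent.Char.Values
import Mathlib.Analysis.SpecialFunctions.Complex.CircleAddChar
import Mathlib.NumberTheory.LegendreSymbol.AddCharacter
import Mathlib.RingTheory.RootsOfUnity.PrimitiveRoots
import Mathlib.Tactic

set_option autoImplicit false

namespace CfsgLib.TwoPrime

open CfsgLib.Char

universe u

variable {p : ℕ} [hp : Fact p.Prime]

/-- The standard additive character of `ZMod p`. -/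
noncomputable abbrev ec : AddChar (ZMod p) ℂ := ZMod.stdAddChar

/-- Fourier coefficients. -/
noncomputable def fourier (f : ZMod p → ℂ) (j : ZMod p) : ℂ :=
  (p : ℂ)⁻¹ * ∑ m, f m * ec (-(j * m))

theorem sum_ec_mul (b : ZMod p) : ∑ x, ec (x * b) = if b = 0 then (p : ℂ) else 0 := by
  classical
  rw [AddChar.sum_mulShift b (ZMod.isPrimitive_stdAddChar p), ZMod.card]
  push_cast
  rfl

theorem sum_units_split {M : Type*} [AddCommMonoid M] (f : ZMod p → M) :
    ∑ j, f j = f 0 + ∑ u : (ZMod p)ˣ, f (u : ZMod p) := by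
  classical
  rw [← Finset.add_sum_erase _ _ (Finset.mem_univ (0 : ZMod p))]
  congr 1
  refine (Finset.sum_bij (fun u _ => ((u : (ZMod p)ˣ) : ZMod p)) (fun u _ => ?_)
    (fun u _ v _ e => Units.ext (show (u : ZMod p) = (v : ZMod p) from e))
    (fun z hz => ⟨Units.mk0 z (Finset.ne_of_mem_erase hz), Finset.mem_univ _, rfl⟩) fun u _ => rfl).symm
  exact Finset.mem_erase.2 ⟨Units.ne_zero u, Finset.mem_univ _⟩

theorem sum_ec_units {m : ZMod p} (hm : m ≠ 0) :
    ∑ u : (ZMod p)ˣ, ec ((u : ZMod p) * m) = -1 := by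
  have h := sum_ec_mul (p := p) m
  rw [if_neg hm, sum_units_split, zero_mul, AddChar.map_zero_eq_one] at h
  linear_combination h

theorem fourier_eq {f a : ZMod p → ℂ} (h : ∀ m, f m = ∑ j, a j * ec (j * m)) (j : ZMod p) :
    fourier f j = a j := by
  classical
  have hp0 : (p : ℂ) ≠ 0 := Nat.cast_ne_zero.2 hp.out.ne_zero
  have h1 : ∑ m, f m * ec (-(j * m)) = ∑ i, a i * ∑ m, ec (m * (i - j)) := by
    simp only [h, Finset.sum_mul, Finset.mul_sum]
    rw [Finset.sum_comm]
    refine Finset.sum_congr rfl fun i _ => Finset.sum_congr rfl fun m _ => ?_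
    rw [mul_assoc, ← AddChar.map_add_eq_mul]
    congr 2
    ring
  rw [fourier, h1]
  simp only [sum_ec_mul, sub_eq_zero, mul_ite, mul_zero, Finset.sum_ite_eq', Finset.mem_univ, if_true]
  field_simp

theorem coeff_unique {a b : ZMod p → ℂ}
    (h : ∀ m, ∑ j, a j * ec (j * m) = ∑ j, b j * ec (j * m)) : a = b :=
  funext fun j => (fourier_eq (f := fun m => ∑ i, a i * ec (i * m)) (fun _ => rfl) j).symm.trans
    (fourier_eq h j)

section Group

variable {G : Type u} [Group G] {x : G}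

/-- The powers of `x` indexed by `ZMod p`. -/
def xpow (x : G) (m : ZMod p) : G := x ^ m.val

theorem xpow_zero : xpow x (0 : ZMod p) = 1 := by simp [xpow]

theorem xpow_one : xpow x (1 : ZMod p) = x := by simp [xpow, ZMod.val_one]

theorem xpow_add (hx : x ^ p = 1) (a b : ZMod p) : xpow x (a + b) = xpow x a * xpow x b := by
  rw [xpow, xpow, xpow, ← pow_add, ZMod.val_add, ← pow_eq_pow_mod _ hx]

theorem xpow_natCast (hx : x ^ p = 1) (n : ℕ) : xpow x (n : ZMod p) = x ^ n := by
  rw [xpow, ZMod.val_natCast, ← pow_eq_pow_mod _ hx]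

theorem xpow_ne_one (hx : x ^ p = 1) (hx1 : x ≠ 1) {m : ZMod p} (hm : m ≠ 0) : xpow x m ≠ 1 := by
  intro h
  have ho : orderOf x = p := orderOf_eq_prime hx hx1
  have := orderOf_dvd_of_pow_eq_one h
  rw [ho] at this
  exact hm (by rw [← ZMod.natCast_zmod_val m]; exact (ZMod.natCast_eq_zero_iff _ _).2 this)

theorem xpow_pow (hx : x ^ p = 1) (m : ZMod p) (k : ℕ) :
    xpow x m ^ k = xpow x ((k : ZMod p) * m) := by
  conv_rhs => rw [← ZMod.natCast_zmod_val m, ← Nat.cast_mul, xpow_natCast hx, mul_comm]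
  rw [xpow, ← pow_mul]

variable [Finite G]

/-- The restriction of a character to the powers of `x`. -/
theorem exists_coeff (hx : x ^ p = 1) {χ : G → ℂ} (hχ : Cfsg.IsCharacter G χ) :
    ∃ n : ZMod p → ℕ, ∀ m, χ (xpow x m) = ∑ j, (n j : ℂ) * ec (j * m) := by
  classical
  obtain ⟨s, -, hs, hk⟩ := IsCharacter.exists_roots hχ x
  have hroot : ∀ z ∈ s, z ^ p = 1 := fun z hz => by
    obtain ⟨c, hc⟩ := orderOf_dvd_of_pow_eq_one hx
    rw [hc, pow_mul, hs z hz, one_pow]
  have hp1 : IsPrimitiveRoot (ec (1 : ZMod p)) p := by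
    have h1 : ec (1 : ZMod p) ^ p = 1 := by
      rw [← AddChar.map_nsmul_eq_pow, nsmul_one, ZMod.natCast_self, AddChar.map_zero_eq_one]
    have h2 : ec (1 : ZMod p) ≠ 1 := fun e => one_ne_zero (α := ZMod p)
      (ZMod.injective_stdAddChar (e.trans (AddChar.map_zero_eq_one _).symm))
    have h3 := IsPrimitiveRoot.orderOf (ec (1 : ZMod p))
    rwa [orderOf_eq_prime h1 h2] at h3
  suffices H : ∀ t : Multiset ℂ, (∀ z ∈ t, z ^ p = 1) → ∃ n : ZMod p → ℕ, ∀ m : ZMod p,
      (t.map fun z => z ^ m.val).sum = ∑ j, (n j : ℂ) * ec (j * m) by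
    obtain ⟨n, hn⟩ := H s hroot
    exact ⟨n, fun m => by rw [xpow, hk, hn]⟩
  intro t
  induction t using Multiset.induction with
  | empty => exact fun _ => ⟨0, fun m => by simp⟩
  | cons a t ih =>
    intro ht
    obtain ⟨n, hn⟩ := ih fun z hz => ht z (Multiset.mem_cons_of_mem hz)
    obtain ⟨i, -, hi⟩ := hp1.eq_pow_of_pow_eq_one (ht a (Multiset.mem_cons_self a t))
    refine ⟨fun j => n j + if j = (i : ZMod p) then 1 else 0, fun m => ?_⟩
    rw [Multiset.map_cons, Multiset.sum_cons, hn, ← hi]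
    simp only [Nat.cast_add, Nat.cast_ite, Nat.cast_one, Nat.cast_zero, add_mul,
      Finset.sum_add_distrib, ite_mul, one_mul, zero_mul, Finset.sum_ite_eq', Finset.mem_univ,
      if_true]
    rw [add_comm]
    congr 1
    rw [← pow_mul, ← AddChar.map_nsmul_eq_pow, nsmul_one, Nat.cast_mul, ZMod.natCast_zmod_val]

end Group

end CfsgLib.TwoPrime
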