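/-
An element of prime order with dihedral normaliser: the group data, induced functions, pairs of
involutions.
-/
import Cfsg.Agent.Perm.TwoPrime.Restrict
import Cfsg.Agent.Char.Induction
import Cfsg.Agent.Char.Orthogonality
import Mathlib.GroupTheory.Sylow
import Mathlib.GroupTheory.Transfer

set_option autoImplicit false
set_option linter.style.haveILetI false
set_option linter.unusedSectionVars false

namespace CfsgLib.TwoPrime

open CfsgLib.Char
open scoped ComplexConjugate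

universe u

variable {p : ℕ} [hp : Fact p.Prime]
variable {G : Type u} [Group G]

/-- `t` is an involution inverting `x`, and the normaliser of `⟨x⟩` is `⟨x, t⟩`. -/
structure Dih (p : ℕ) (x t : G) : Prop where
  pow_p : x ^ p = 1
  x_ne : x ≠ 1
  t_sq : t * t = 1
  t_ne : t ≠ 1
  inv : t * x * t = x⁻¹
  normalizes : ∀ g : G, g * x * g⁻¹ ∈ Subgroup.zpowers x →
    g ∈ Subgroup.zpowers x ∨ g * t ∈ Subgroup.zpowers x

variable {x t : G}

theorem mem_zpowers_xpow (hx : x ^ p = 1) {y : G} :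
    y ∈ Subgroup.zpowers x ↔ ∃ m : ZMod p, xpow x m = y := by
  refine ⟨?_, fun ⟨m, hm⟩ => hm ▸ Subgroup.npow_mem_zpowers x _⟩
  rintro ⟨i, rfl⟩
  refine ⟨((i % p).toNat : ℕ), ?_⟩
  rw [xpow_natCast hx]
  show x ^ _ = x ^ i
  have hmod := Int.emod_nonneg i (Int.natCast_ne_zero.2 hp.out.ne_zero)
  rw [← zpow_natCast, Int.toNat_of_nonneg hmod]
  conv_rhs => rw [← Int.emod_add_mul_ediv i p]
  rw [zpow_add, zpow_mul, zpow_natCast, hx, one_zpow, mul_one]

theorem xpow_neg (hx : x ^ p = 1) (m : ZMod p) : xpow x (-m) = (xpow x m)⁻¹ :=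
  eq_inv_of_mul_eq_one_left (by rw [← xpow_add hx, neg_add_cancel, xpow_zero])

theorem xpow_injective (hx : x ^ p = 1) (hx1 : x ≠ 1) :
    Function.Injective (xpow (p := p) x) := by
  intro a b h
  by_contra hne
  refine xpow_ne_one hx hx1 (sub_ne_zero.2 hne) ?_
  rw [sub_eq_add_neg, xpow_add hx, xpow_neg hx, h, mul_inv_cancel]

/-- The powers of `x` as a type. -/
noncomputable def powEquiv (hx : x ^ p = 1) (hx1 : x ≠ 1) : ZMod p ≃ Subgroup.zpowers x :=
  Equiv.ofBijective (fun m => ⟨xpow x m, (mem_zpowers_xpow hx).2 ⟨m, rfl⟩⟩)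
    ⟨fun a b h => xpow_injective hx hx1 (congrArg Subtype.val h), fun ⟨y, hy⟩ => by
      obtain ⟨m, hm⟩ := (mem_zpowers_xpow hx).1 hy
      exact ⟨m, Subtype.ext hm⟩⟩

theorem card_zpowers_x (hx : x ^ p = 1) (hx1 : x ≠ 1) : Nat.card (Subgroup.zpowers x) = p := by
  rw [← Nat.card_congr (powEquiv hx hx1), Nat.card_zmod]

/-- A function on the powers of `x` given on exponents. -/
noncomputable def onPow (hx : x ^ p = 1) (hx1 : x ≠ 1) (f : ZMod p → ℂ) :
    Subgroup.zpowers x → ℂ := fun y => f ((powEquiv hx hx1).symm y)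

theorem onPow_xpow (hx : x ^ p = 1) (hx1 : x ≠ 1) (f : ZMod p → ℂ) (m : ZMod p)
    (h : xpow x m ∈ Subgroup.zpowers x) : onPow hx hx1 f ⟨xpow x m, h⟩ = f m := by
  rw [onPow, show (⟨xpow x m, h⟩ : Subgroup.zpowers x) = powEquiv hx hx1 m from rfl,
    Equiv.symm_apply_apply]

theorem classInner_onPow [Fintype (Subgroup.zpowers x)] (hx : x ^ p = 1) (hx1 : x ≠ 1)
    (f g : ZMod p → ℂ) :
    Cfsg.classInner (onPow hx hx1 f) (onPow hx hx1 g) = (p : ℂ)⁻¹ * ∑ m, f m * conj (g m) := by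
  rw [classInner_def, card_zpowers_x hx hx1]
  congr 1
  refine Fintype.sum_equiv (powEquiv hx hx1).symm _ _ fun y => rfl

theorem restrict_eq_onPow (hx : x ^ p = 1) (hx1 : x ≠ 1) (χ : G → ℂ) :
    (fun h : Subgroup.zpowers x => χ h) = onPow hx hx1 fun m => χ (xpow x m) := by
  funext h
  obtain ⟨y, hy⟩ := h
  obtain ⟨m, rfl⟩ := (mem_zpowers_xpow hx).1 hy
  rw [onPow_xpow]

theorem classInner_indFun_onPow [Fintype G] (hx : x ^ p = 1) (hx1 : x ≠ 1) (f : ZMod p → ℂ)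
    {χ : G → ℂ} (hχ : Cfsg.IsClassFunction G χ) :
    Cfsg.classInner (Cfsg.indFun _ (onPow hx hx1 f)) χ =
      (p : ℂ)⁻¹ * ∑ m, f m * conj (χ (xpow x m)) := by
  classical
  haveI := Fintype.ofFinite (Subgroup.zpowers x)
  rw [classInner_indFun _ hχ, restrict_eq_onPow hx hx1, classInner_onPow]

theorem isGeneralized_onPow_ec (hx : x ^ p = 1) (hx1 : x ≠ 1) :
    Cfsg.IsGeneralizedCharacter (Subgroup.zpowers x) (onPow hx hx1 fun m => 1 - ec m) := by
  let lam : Subgroup.zpowers x →* ℂˣ := MonoidHom.mk'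
    (fun y => Units.mk0 (ec ((powEquiv hx hx1).symm y))
      (ec (p := p).val_isUnit _).ne_zero)
    fun a b => by
      apply Units.ext
      simp only [Units.val_mk0, Units.val_mul]
      rw [← AddChar.map_add_eq_mul]
      congr 1
      apply (powEquiv hx hx1).injective
      refine Subtype.ext ?_
      obtain ⟨i, rfl⟩ := (powEquiv hx hx1).surjective a
      obtain ⟨j, rfl⟩ := (powEquiv hx hx1).surjective b
      simp only [Equiv.symm_apply_apply, Equiv.apply_symm_apply]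
      show xpow x i * xpow x j = xpow x (i + j)
      rw [xpow_add hx]
  exact ⟨fun _ => 1, fun y => (lam y : ℂ), isCharacter_one, isCharacter_ofHom lam, rfl⟩

variable (D : Dih p x t)
include D

theorem Dih.conj_xpow (m : ZMod p) : t * xpow x m * t = xpow x (-m) := by
  have hinv : t⁻¹ = t := inv_eq_of_mul_eq_one_right D.t_sq
  rw [xpow_neg D.pow_p, xpow]
  calc t * x ^ m.val * t = (t * x * t⁻¹) ^ m.val := by rw [conj_pow, hinv]
    _ = (x ^ m.val)⁻¹ := by rw [hinv, D.inv, inv_pow]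

theorem Dih.two_ne : p ≠ 2 → ∀ m : ZMod p, m ≠ 0 → m ≠ -m := fun h2 m hm h => hm (by
  have h' : (2 : ZMod p) * m = 0 := by rw [two_mul]; exact eq_neg_iff_add_eq_zero.1 h
  refine (mul_eq_zero.1 h').resolve_left fun e => h2 ?_
  have : ((2 : ℕ) : ZMod p) = 0 := by exact_mod_cast e
  exact (Nat.prime_dvd_prime_iff_eq hp.out Nat.prime_two).1 ((ZMod.natCast_eq_zero_iff 2 p).1 this))

theorem Dih.t_notMem (h2 : p ≠ 2) : t ∉ Subgroup.zpowers x := by
  intro h
  obtain ⟨m, hm⟩ := (mem_zpowers_xpow D.pow_p).1 h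
  have hm0 : m ≠ 0 := fun e => D.t_ne (by rw [← hm, e, xpow_zero])
  have h1 : xpow x (m + m) = 1 := by rw [xpow_add D.pow_p, hm, D.t_sq]
  have : m + m = 0 := by
    by_contra hne
    exact xpow_ne_one D.pow_p D.x_ne hne h1
  exact D.two_ne h2 m hm0 (eq_neg_iff_add_eq_zero.2 this)

theorem Dih.mem_or_of_conj {g : G} {m : ZMod p} (hm : m ≠ 0)
    (h : g⁻¹ * xpow x m * g ∈ Subgroup.zpowers x) :
    (∃ i : ZMod p, g = xpow x i) ∨ ∃ i : ZMod p, g = xpow x i * t := by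
  have hpow : g⁻¹ * x * g ∈ Subgroup.zpowers x := by
    have h1 := (Subgroup.zpowers x).pow_mem h (m⁻¹).val
    rw [show g⁻¹ * xpow x m * g = g⁻¹ * xpow x m * (g⁻¹)⁻¹ by rw [inv_inv], conj_pow,
      xpow_pow D.pow_p, ZMod.natCast_zmod_val, inv_mul_cancel₀ hm, xpow_one, inv_inv] at h1
    exact h1
  have hmem := D.normalizes g⁻¹ (by rwa [inv_inv])
  rcases hmem with hmem | hmem
  · obtain ⟨i, hi⟩ := (mem_zpowers_xpow D.pow_p).1 ((Subgroup.zpowers x).inv_mem hmem)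
    exact Or.inl ⟨i, by rw [hi, inv_inv]⟩
  · right
    obtain ⟨i, hi⟩ := (mem_zpowers_xpow D.pow_p).1 hmem
    refine ⟨i, ?_⟩
    have hinv : t⁻¹ = t := inv_eq_of_mul_eq_one_right D.t_sq
    have hg : g = t * (xpow x i)⁻¹ := by rw [hi, mul_inv_rev, hinv, inv_inv, ← mul_assoc, D.t_sq, one_mul]
    rw [hg, ← xpow_neg D.pow_p]
    have h1 := D.conj_xpow (-i)
    rw [neg_neg] at h1
    rw [← h1, mul_assoc, D.t_sq, mul_one]

/-- An induced function on the conjugates of the non-trivial powers. -/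
theorem Dih.indFun_xpow [Fintype G] (h2 : p ≠ 2) (f : ZMod p → ℂ) {m : ZMod p} (hm : m ≠ 0) :
    Cfsg.indFun _ (onPow D.pow_p D.x_ne f) (xpow x m) = f m + f (-m) := by
  classical
  rw [indFun_def, card_zpowers_x D.pow_p D.x_ne]
  let e : ZMod p × Bool → G := fun a => if a.2 then xpow x a.1 * t else xpow x a.1
  have he : Function.Injective e := by
    rintro ⟨i, b⟩ ⟨j, c⟩ h
    cases b <;> cases c <;> simp only [e, Bool.false_eq_true, if_false, if_true] at h
    · rw [xpow_injective D.pow_p D.x_ne h]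
    · exfalso
      refine D.t_notMem h2 ((mem_zpowers_xpow D.pow_p).2 ⟨-j + i, ?_⟩)
      rw [xpow_add D.pow_p, h, ← mul_assoc, ← xpow_add D.pow_p, neg_add_cancel, xpow_zero, one_mul]
    · exfalso
      refine D.t_notMem h2 ((mem_zpowers_xpow D.pow_p).2 ⟨-i + j, ?_⟩)
      rw [xpow_add D.pow_p, ← h, ← mul_assoc, ← xpow_add D.pow_p, neg_add_cancel, xpow_zero, one_mul]
    · rw [xpow_injective D.pow_p D.x_ne (mul_right_cancel h)]
  rw [← Fintype.sum_of_injective e he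
    (fun a : ZMod p × Bool => if a.2 then f (-m) else f m) _ (fun g hg => ?_) fun a => ?_]
  · rw [Fintype.sum_prod_type]
    simp only [Fintype.sum_bool, if_true, Bool.false_eq_true, if_false, Finset.sum_const,
      Finset.card_univ, ZMod.card, nsmul_eq_mul]
    have hp0 : (p : ℂ) ≠ 0 := Nat.cast_ne_zero.2 hp.out.ne_zero
    field_simp
    ring
  · refine extendByZero_of_not_mem _ fun hmem => hg ?_
    rcases D.mem_or_of_conj hm hmem with ⟨i, rfl⟩ | ⟨i, rfl⟩
    · exact ⟨(i, false), rfl⟩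
    · exact ⟨(i, true), rfl⟩
  · obtain ⟨i, b⟩ := a
    have hc : (xpow x i)⁻¹ * xpow x m * xpow x i = xpow x m := by
      rw [← xpow_neg D.pow_p, ← xpow_add D.pow_p, ← xpow_add D.pow_p, neg_add_cancel_comm]
    cases b <;> simp only [e, Bool.false_eq_true, if_false, if_true]
    · rw [hc, extendByZero_of_mem _ ((mem_zpowers_xpow D.pow_p).2 ⟨m, rfl⟩), onPow_xpow]
    · rw [mul_inv_rev, inv_eq_of_mul_eq_one_right D.t_sq,
        show t * (xpow x i)⁻¹ * xpow x m * (xpow x i * t) =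
          t * ((xpow x i)⁻¹ * xpow x m * xpow x i) * t by group, hc, D.conj_xpow,
        extendByZero_of_mem _ ((mem_zpowers_xpow D.pow_p).2 ⟨-m, rfl⟩), onPow_xpow]

theorem Dih.indFun_zero_or [Fintype G] (f : ZMod p → ℂ) (hf : f 0 = 0) (g : G) :
    Cfsg.indFun _ (onPow D.pow_p D.x_ne f) g = 0 ∨ ∃ m : ZMod p, m ≠ 0 ∧ IsConj (xpow x m) g := by
  by_cases h : ∃ m : ZMod p, m ≠ 0 ∧ IsConj (xpow x m) g
  · exact Or.inr h
  left
  rw [indFun_def, Finset.sum_eq_zero, mul_zero]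
  intro y _
  by_cases hy : y⁻¹ * g * y ∈ Subgroup.zpowers x
  · obtain ⟨m, hm⟩ := (mem_zpowers_xpow D.pow_p).1 hy
    rw [extendByZero_of_mem _ hy]
    have hm0 : m = 0 := by
      by_contra hm0
      exact h ⟨m, hm0, isConj_iff.2 ⟨y, by rw [hm]; group⟩⟩
    subst hm0
    have : (⟨y⁻¹ * g * y, hy⟩ : Subgroup.zpowers x) =
        ⟨xpow x (0 : ZMod p), (mem_zpowers_xpow D.pow_p).2 ⟨0, rfl⟩⟩ := Subtype.ext hm.symm
    rw [this, onPow_xpow, hf]
  · exact extendByZero_of_not_mem _ hy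

/-- All the involutions of the coset `⟨x⟩ t` are conjugate to `t`. -/
theorem Dih.isConj_coset (h2 : p ≠ 2) (i : ZMod p) : IsConj t (xpow x i * t) := by
  obtain ⟨j, rfl⟩ : ∃ j, j + j = i := by
    refine ⟨i * (2 : ZMod p)⁻¹, ?_⟩
    have h : (2 : ZMod p) ≠ 0 := fun e => D.two_ne h2 1 one_ne_zero
      (eq_neg_iff_add_eq_zero.2 (by rw [← e]; norm_num))
    field_simp
    ring
  refine isConj_iff.2 ⟨xpow x j, ?_⟩
  have h := D.conj_xpow (-j)
  rw [neg_neg] at h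
  have h' : t * xpow x (-j) = xpow x j * t := by
    rw [← h]; simp only [mul_assoc, D.t_sq, mul_one]
  rw [← xpow_neg D.pow_p, xpow_add D.pow_p, mul_assoc, h', ← mul_assoc]

/-- Two involutions with product a non-trivial power of `x` lie in the coset `⟨x⟩ t`. -/
theorem Dih.pair_mem (h2 : p ≠ 2) {u v : G} (hu : u * u = 1) (hv : v * v = 1) {m : ZMod p} (hm : m ≠ 0)
    (huv : u * v = xpow x m) : ∃ i, u = xpow x i * t ∧ v = xpow x (i - m) * t := by
  have hui : u⁻¹ = u := inv_eq_of_mul_eq_one_right hu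
  have hvi : v⁻¹ = v := inv_eq_of_mul_eq_one_right hv
  have hconj : u⁻¹ * xpow x m * u = xpow x (-m) := by
    rw [xpow_neg D.pow_p, ← huv, mul_inv_rev, hui, hvi]
    rw [← mul_assoc, hu, one_mul]
  rcases D.mem_or_of_conj hm (hconj ▸ (mem_zpowers_xpow D.pow_p).2 ⟨-m, rfl⟩) with ⟨i, hi⟩ | ⟨i, hi⟩
  · exfalso
    rw [hi, ← xpow_neg D.pow_p, ← xpow_add D.pow_p, ← xpow_add D.pow_p, neg_add_cancel_comm] at hconj
    exact D.two_ne h2 m hm (xpow_injective D.pow_p D.x_ne hconj)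
  · refine ⟨i, hi, ?_⟩
    have hv' : v = u * xpow x m := by rw [← huv, ← mul_assoc, hu, one_mul]
    rw [hv', hi, mul_assoc, show t * xpow x m = xpow x (-m) * t by
      rw [← D.conj_xpow, mul_assoc, D.t_sq, mul_one], ← mul_assoc, ← xpow_add D.pow_p, sub_eq_add_neg]

theorem Dih.card_pairs [Fintype G] (h2 : p ≠ 2) {m : ZMod p} (hm : m ≠ 0) :
    Nat.card {q : G × G // IsConj t q.1 ∧ IsConj t q.2 ∧ q.1 * q.2 = xpow x m} = p := by
  have hsq : ∀ u, IsConj t u → u * u = 1 := fun u hu => by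
    obtain ⟨c, rfl⟩ := isConj_iff.1 hu
    rw [show c * t * c⁻¹ * (c * t * c⁻¹) = c * (t * t) * c⁻¹ by group, D.t_sq, mul_one, mul_inv_cancel]
  refine Eq.trans ?_ (Nat.card_zmod p)
  refine (Nat.card_congr (Equiv.ofBijective (fun i : ZMod p =>
    (⟨(xpow x i * t, xpow x (i - m) * t), D.isConj_coset h2 i, D.isConj_coset h2 _, ?_⟩ :
      {q : G × G // IsConj t q.1 ∧ IsConj t q.2 ∧ q.1 * q.2 = xpow x m})) ⟨fun i j h => ?_, ?_⟩)).symm
  · rw [show xpow x i * t * (xpow x (i - m) * t) = xpow x i * (t * xpow x (i - m) * t) by group,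
      D.conj_xpow, ← xpow_add D.pow_p]
    congr 1; ring
  · exact xpow_injective D.pow_p D.x_ne (mul_right_cancel (congrArg (fun q => q.1.1) h))
  · rintro ⟨⟨u, v⟩, hu, hv, huv⟩
    obtain ⟨i, hi, hi'⟩ := D.pair_mem h2 (hsq u hu) (hsq v hv) hm huv
    exact ⟨i, Subtype.ext (Prod.ext hi.symm hi'.symm)⟩

theorem Dih.no_pairs [Fintype G] (h2 : p ≠ 2) {m : ZMod p} (hm : m ≠ 0) {w : G} (hw : w * w = 1)
    (hne : ¬ IsConj t w) :
    Nat.card {q : G × G // IsConj t q.1 ∧ IsConj w q.2 ∧ q.1 * q.2 = xpow x m} = 0 := by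
  refine Nat.card_eq_zero.2 (Or.inl ⟨fun ⟨⟨u, v⟩, hu, hv, huv⟩ => ?_⟩)
  have hsq : ∀ (a b : G), a * a = 1 → IsConj a b → b * b = 1 := fun a b ha hb => by
    obtain ⟨c, rfl⟩ := isConj_iff.1 hb
    rw [show c * a * c⁻¹ * (c * a * c⁻¹) = c * (a * a) * c⁻¹ by group, ha, mul_one, mul_inv_cancel]
  obtain ⟨i, -, hi'⟩ := D.pair_mem h2 (hsq t u D.t_sq hu) (hsq w v hw hv) hm huv
  exact hne ((D.isConj_coset h2 (i - m)).trans (hi' ▸ hv.symm))

end CfsgLib.TwoPrime
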