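/-
A character of degree `p - 1` in a group with a self-centralising subgroup of order `p` and
normaliser of order `2 p`: the number of involutions, and `p - 1` is a power of two.
-/
import Cfsg.Agent.Perm.TwoPrime.Dihedral
import Cfsg.Agent.Char.ClassProducts
import Cfsg.Agent.Char.Generalized
import Cfsg.Agent.Char.IntegralBrauer
import Cfsg.Agent.Char.PowPart
import Cfsg.Agent.Char.AlgInt
import Mathlib.LinearAlgebra.Trace

set_option autoImplicit false
set_option linter.style.haveILetI false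
set_option linter.unusedSectionVars false

namespace CfsgLib.TwoPrime

open CfsgLib.Char
open scoped ComplexConjugate

universe u

variable {p : ℕ} [hp : Fact p.Prime]
variable {G : Type u} [Group G] [Fintype G]
variable {x t : G}

theorem conj_ec (m : ZMod p) : conj (ec m) = ec (-m) := (AddChar.map_neg_eq_conj _ m).symm

/-- The virtual weights `1 - ec`. -/
noncomputable def psi (m : ZMod p) : ℂ := 1 - ec m

theorem sum_ec_const (b : ZMod p) (hb : b ≠ 0) : ∑ m : ZMod p, ec (m * b) = 0 := by
  rw [sum_ec_mul, if_neg hb]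

theorem sum_psi : ∑ m : ZMod p, psi m = p := by
  have h := sum_ec_const (p := p) 1 one_ne_zero
  simp only [mul_one] at h
  simp [psi, Finset.sum_sub_distrib, h]

theorem sum_psi_self (h2 : p ≠ 2) :
    ∑ m : ZMod p, psi m * conj (psi m + psi (-m)) = 3 * p := by
  have two : (2 : ZMod p) ≠ 0 := fun e => h2 ((Nat.prime_dvd_prime_iff_eq hp.out Nat.prime_two).1
    ((ZMod.natCast_eq_zero_iff 2 p).1 (by exact_mod_cast e)))
  have h1 := sum_ec_const (p := p) 1 one_ne_zero
  have h1' := sum_ec_const (p := p) (-1) (neg_ne_zero.2 one_ne_zero)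
  have h3 := sum_ec_const (p := p) 2 two
  simp only [mul_one, mul_neg] at h1 h1'
  have : ∀ m : ZMod p, psi m * conj (psi m + psi (-m)) =
      3 + (-ec (-m) + (-3) * ec m + ec (m * 2)) := fun m => by
    have ha : ec m * ec (-m) = 1 := by
      rw [← AddChar.map_add_eq_mul, add_neg_cancel, AddChar.map_zero_eq_one]
    have hb : ec (m * 2) = ec m * ec m := by rw [mul_two, AddChar.map_add_eq_mul]
    simp only [psi, map_add, map_sub, map_one, conj_ec, neg_neg, hb]
    linear_combination ha
  simp only [this, Finset.sum_add_distrib, ← Finset.mul_sum, Finset.sum_neg_distrib, h1, h1', h3]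
  simp [mul_comm]

variable (D : Dih p x t)
include D

theorem Dih.orderOf_t : orderOf t = 2 := orderOf_eq_prime (by rw [sq, D.t_sq]) D.t_ne

/-- A character without trivial constituent on `⟨x⟩` vanishes on `t`. -/
theorem Dih.apply_t_eq_zero (h2 : p ≠ 2) {θ : G → ℂ} (hθ : Cfsg.IsCharacter G θ)
    (h0 : ∑ m : ZMod p, θ (xpow x m) = 0) : θ t = 0 := by
  obtain ⟨n, ρ, rfl⟩ := hθ
  have hp0 : (p : ℂ) ≠ 0 := Nat.cast_ne_zero.2 hp.out.ne_zero
  set S : Module.End ℂ (Fin n → ℂ) := ∑ m : ZMod p, ρ (xpow x m) with hS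
  have hSS : S * S = (p : ℂ) • S := by
    rw [hS, Finset.sum_mul]
    rw [show ((p : ℂ) • ∑ m : ZMod p, ρ (xpow x m)) =
      ∑ _i : ZMod p, ∑ m : ZMod p, ρ (xpow x m) by simp [Nat.cast_smul_eq_nsmul]]
    refine Finset.sum_congr rfl fun i _ => ?_
    rw [Finset.mul_sum]
    exact Fintype.sum_equiv (Equiv.addLeft i) _ _ fun m => by
      simp [← map_mul, xpow_add D.pow_p]
  set P : Module.End ℂ (Fin n → ℂ) := (p : ℂ)⁻¹ • S with hP
  have hPP : IsIdempotentElem P := by
    show P * P = P
    rw [hP, smul_mul_smul_comm, hSS, smul_smul, mul_assoc, inv_mul_cancel₀ hp0, mul_one]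
  have htr : LinearMap.trace ℂ _ P = 0 := by
    rw [hP, map_smul, hS, map_sum, smul_eq_mul]
    exact mul_eq_zero_of_right _ h0
  have hproj := (LinearMap.isProj_range_iff_isIdempotentElem P).2 hPP
  rw [hproj.trace, Nat.cast_eq_zero] at htr
  have hP0 : P = 0 := LinearMap.range_eq_bot.1 (Submodule.finrank_eq_zero.1 htr)
  have hS0 : S = 0 := by
    rw [hP, smul_eq_zero] at hP0
    exact hP0.resolve_left (inv_ne_zero hp0)
  have hsum : ∑ i : ZMod p, ρ.character (xpow x i * t) = 0 := by
    have : LinearMap.trace ℂ _ (S * ρ t) = 0 := by rw [hS0, zero_mul, map_zero]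
    rw [hS, Finset.sum_mul, map_sum] at this
    rw [← this]
    exact Finset.sum_congr rfl fun i _ => by rw [Representation.character, map_mul]
  have hcl : Cfsg.IsClassFunction G ρ.character :=
    IsCharacter.isClassFunction ⟨n, ρ, rfl⟩
  rw [Finset.sum_congr rfl fun i _ =>
    (IsClassFunction.apply_eq_of_isConj hcl (D.isConj_coset h2 i)).symm] at hsum
  simpa [hp.out.ne_zero] using hsum

/-- The induced virtual character. -/
noncomputable def Dih.alpha : G → ℂ := Cfsg.indFun _ (onPow D.pow_p D.x_ne (psi (p := p)))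

theorem Dih.alpha_isGeneralized : Cfsg.IsGeneralizedCharacter G D.alpha :=
  IsGeneralized.indFun (isGeneralized_onPow_ec D.pow_p D.x_ne)

theorem Dih.alpha_xpow (h2 : p ≠ 2) (m : ZMod p) :
    D.alpha (xpow x m) = psi m + psi (-m) := by
  rcases eq_or_ne m 0 with rfl | hm
  · rw [xpow_zero, Dih.alpha, indFun_one]
    have h : (1 : Subgroup.zpowers x) =
        ⟨xpow x (0 : ZMod p), by rw [xpow_zero]; exact one_mem _⟩ := Subtype.ext xpow_zero.symm
    rw [h, onPow_xpow]
    simp [psi]
  · exact D.indFun_xpow h2 _ hm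

theorem Dih.alpha_one (h2 : p ≠ 2) : D.alpha 1 = 0 := by
  rw [← xpow_zero (x := x) (p := p), D.alpha_xpow h2]
  simp [psi]

theorem Dih.alpha_involution {w : G} (h2 : p ≠ 2) (hw : w * w = 1) (hw1 : w ≠ 1) :
    D.alpha w = 0 := by
  rcases D.indFun_zero_or (psi (p := p)) (by simp [psi]) w with h | ⟨m, hm, hc⟩
  · exact h
  · exfalso
    obtain ⟨c, hc⟩ := isConj_iff.1 hc
    have h1 : xpow x (m + m) = 1 := by
      have : w * w = c * (xpow x m * xpow x m) * c⁻¹ := by rw [← hc]; group
      rw [hw] at this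
      rw [xpow_add D.pow_p, show xpow x m * xpow x m = c⁻¹ * (c * (xpow x m * xpow x m) * c⁻¹) * c by
        group, ← this]
      group
    refine D.two_ne h2 m hm (eq_neg_iff_add_eq_zero.2 ?_)
    by_contra hne
    exact xpow_ne_one D.pow_p D.x_ne hne h1

variable {θ : G → ℂ} (h3 : 3 < p) (hθ : Cfsg.IsIrrCharacter G θ) (hθ1 : θ 1 = (p : ℂ) - 1)
  (hθx : ∀ m : ZMod p, m ≠ 0 → θ (xpow x m) = -1)
include h3 hθ hθ1 hθx

theorem Dih.theta_t : θ t = 0 := by
  classical
  refine D.apply_t_eq_zero (by omega) (IsIrrCharacter.isCharacter hθ) ?_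
  rw [← Finset.sum_erase_add _ _ (Finset.mem_univ (0 : ZMod p)),
    Finset.sum_congr rfl fun m hm => hθx m (Finset.ne_of_mem_erase hm), xpow_zero, hθ1,
    Finset.sum_const, Finset.card_erase_of_mem (Finset.mem_univ _), Finset.card_univ, ZMod.card,
    nsmul_eq_mul, Nat.cast_pred hp.out.pos]
  ring

/-- The third constituent. -/
theorem Dih.exists_gamma : ∃ γ : G → ℂ, Cfsg.IsIrrCharacter G γ ∧ γ 1 = (p : ℂ) - 2 ∧
    γ = (fun g => D.alpha g - 1 + θ g) := by
  classical
  have h2 : p ≠ 2 := by omega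
  have hp0 : (p : ℂ) ≠ 0 := Nat.cast_ne_zero.2 hp.out.ne_zero
  let one : G → ℂ := fun _ => 1
  have hθ_ne : θ ≠ one := fun h => by
    have := congrFun h 1
    rw [hθ1] at this
    have h' : ((p : ℕ) : ℂ) = ((2 : ℕ) : ℂ) := by push_cast; linear_combination this
    exact h2 (Nat.cast_injective h')
  have hcl : Cfsg.IsClassFunction G D.alpha := isClassFunction_indFun _ _
  have haa : Cfsg.classInner D.alpha D.alpha = 3 := by
    rw [Dih.alpha, classInner_indFun_onPow D.pow_p D.x_ne _ (isClassFunction_indFun _ _)]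
    rw [Finset.sum_congr rfl fun m _ => show psi m *
      conj (Cfsg.indFun _ (onPow D.pow_p D.x_ne psi) (xpow x m)) = psi m * conj (psi m + psi (-m))
      from by rw [← D.alpha_xpow h2 m]; rfl, sum_psi_self h2]
    field_simp
  have ha1 : Cfsg.classInner D.alpha one = 1 := by
    rw [Dih.alpha, classInner_indFun_onPow D.pow_p D.x_ne _
      (IsCharacter.isClassFunction isCharacter_one)]
    simp only [one, map_one, mul_one]
    rw [sum_psi, inv_mul_cancel₀ hp0]
  have haθ : Cfsg.classInner D.alpha θ = -1 := by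
    rw [Dih.alpha, classInner_indFun_onPow D.pow_p D.x_ne _ (IsIrrCharacter.isClassFunction hθ),
      Finset.sum_congr rfl fun m _ => show psi m * conj (θ (xpow x m)) = -psi m from by
        rcases eq_or_ne m 0 with rfl | hm
        · simp [psi]
        · rw [hθx m hm]; simp,
      Finset.sum_neg_distrib, sum_psi, mul_neg, inv_mul_cancel₀ hp0]
  have h1a : Cfsg.classInner one D.alpha = 1 := by
    rw [← classInner_conj, ha1, map_one]
  have hθa : Cfsg.classInner θ D.alpha = -1 := by
    rw [← classInner_conj, haθ]; simp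
  have hγgen : Cfsg.IsGeneralizedCharacter G (D.alpha - one + θ) :=
    IsGeneralized.add (IsGeneralized.sub D.alpha_isGeneralized
      (IsIrrCharacter.isGeneralized isIrrCharacter_one)) (IsIrrCharacter.isGeneralized hθ)
  have hnorm : Cfsg.classInner (D.alpha - one + θ) (D.alpha - one + θ) = 1 := by
    simp only [classInner_add_left, classInner_add_right, classInner_sub_left, classInner_sub_right,
      haa, ha1, haθ, h1a, hθa, IsIrrCharacter.classInner_self isIrrCharacter_one (G := G),
      IsIrrCharacter.classInner_self hθ, IsIrrCharacter.classInner_of_ne hθ isIrrCharacter_one hθ_ne,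
      IsIrrCharacter.classInner_of_ne isIrrCharacter_one hθ (Ne.symm hθ_ne), one]
    norm_num
  have hdeg : (D.alpha - one + θ) 1 = (p : ℂ) - 2 := by
    simp only [Pi.add_apply, Pi.sub_apply, D.alpha_one h2, hθ1, one]; ring
  rcases IsGeneralized.isIrr_or_neg hγgen hnorm with h | h
  · exact ⟨_, h, hdeg, rfl⟩
  · exfalso
    obtain ⟨d, hd, hd'⟩ := IsIrrCharacter.exists_degree h
    rw [Pi.neg_apply, hdeg] at hd'
    have : ((d + p : ℕ) : ℂ) = ((2 : ℕ) : ℂ) := by push_cast; linear_combination -hd'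
    have := Nat.cast_injective this
    omega

/-- The weighted count of factorisations of the non-trivial powers of `x`. -/
theorem Dih.weighted_count {b : G} {γ : G → ℂ} (hγ : Cfsg.IsIrrCharacter G γ)
    (hγ1 : γ 1 = (p : ℂ) - 2) (hγdef : γ = fun g => D.alpha g - 1 + θ g) :
    ∑ m : ZMod p, psi m *
      (Nat.card {q : G × G // IsConj t q.1 ∧ IsConj b q.2 ∧ q.1 * q.2 = xpow x m} : ℂ) =
      (p : ℂ) * ((Nat.card {g : G // IsConj t g} : ℂ) * (Nat.card {g : G // IsConj b g} : ℂ) /
        (Nat.card G : ℂ)) * (1 + γ t * γ b / ((p : ℂ) - 2)) := by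
  classical
  have hp0 : (p : ℂ) ≠ 0 := Nat.cast_ne_zero.2 hp.out.ne_zero
  let one : G → ℂ := fun _ => 1
  have hone : Cfsg.IsIrrCharacter G one := isIrrCharacter_one
  have hne1θ : one ≠ θ := fun h => by
    have := congrFun h 1
    rw [hθ1] at this
    have h' : ((2 : ℕ) : ℂ) = (p : ℕ) := by push_cast; linear_combination this
    have := Nat.cast_injective h'
    omega
  have hne1γ : one ≠ γ := fun h => by
    have := congrFun h 1
    rw [hγ1] at this
    have h' : ((3 : ℕ) : ℂ) = (p : ℕ) := by push_cast; linear_combination this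
    have := Nat.cast_injective h'
    omega
  have hneθγ : θ ≠ γ := fun h => by
    have := congrFun h 1
    rw [hθ1, hγ1] at this
    exact one_ne_zero (α := ℂ) (by linear_combination this)
  have halpha : D.alpha = one - θ + γ := by
    funext g
    simp only [hγdef, one, Pi.add_apply, Pi.sub_apply]; ring
  have hinner : ∀ χ ∈ irrFinset G, ∑ m : ZMod p, psi m * conj (χ (xpow x m)) =
      (p : ℂ) * ((if χ = one then 1 else 0) - (if χ = θ then 1 else 0) +
        if χ = γ then 1 else 0) := by
    intro χ hχ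
    rw [mem_irrFinset] at hχ
    have h := classInner_indFun_onPow D.pow_p D.x_ne (psi (p := p))
      (IsIrrCharacter.isClassFunction hχ)
    change Cfsg.classInner D.alpha χ = _ at h
    rw [halpha, classInner_add_left, classInner_sub_left, IsIrrCharacter.classInner_eq hone hχ,
      IsIrrCharacter.classInner_eq hθ hχ, IsIrrCharacter.classInner_eq hγ hχ] at h
    simp only [eq_comm (a := χ)]
    rw [h, ← mul_assoc, mul_inv_cancel₀ hp0, one_mul]
  simp only [card_class_products]
  rw [Finset.sum_congr rfl fun m _ => mul_left_comm _ _ _, ← Finset.mul_sum]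
  simp only [Finset.mul_sum]
  rw [Finset.sum_comm]
  have hterm : ∀ χ ∈ irrFinset G, ∑ m : ZMod p,
      (Nat.card {g : G // IsConj t g} : ℂ) * (Nat.card {g : G // IsConj b g} : ℂ) /
        (Nat.card G : ℂ) * (psi m * (χ t * χ b * conj (χ (xpow x m)) / χ 1)) =
      (p : ℂ) * ((Nat.card {g : G // IsConj t g} : ℂ) * (Nat.card {g : G // IsConj b g} : ℂ) /
        (Nat.card G : ℂ)) * ((if χ = one then χ t * χ b / χ 1 else 0) -
          (if χ = θ then χ t * χ b / χ 1 else 0) + if χ = γ then χ t * χ b / χ 1 else 0) := by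
    intro χ hχ
    rw [← Finset.mul_sum, Finset.sum_congr rfl fun m _ => show
      psi m * (χ t * χ b * conj (χ (xpow x m)) / χ 1) =
        χ t * χ b / χ 1 * (psi m * conj (χ (xpow x m))) by ring, ← Finset.mul_sum, hinner χ hχ]
    split_ifs <;> ring
  rw [Finset.sum_congr rfl hterm, ← Finset.mul_sum, Finset.sum_add_distrib, Finset.sum_sub_distrib,
    Finset.sum_ite_eq' _ one, Finset.sum_ite_eq' _ θ, Finset.sum_ite_eq' _ γ,
    if_pos (mem_irrFinset.2 hone), if_pos (mem_irrFinset.2 hθ), if_pos (mem_irrFinset.2 hγ),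
    D.theta_t h3 hθ hθ1 hθx, hγ1]
  simp [one]

/-- Apart from the conjugates of `t`, an involution lies in the kernel of `θ`. -/
theorem Dih.involution_eq {w : G} (hw : w * w = 1) (hw1 : w ≠ 1) :
    IsConj t w ∨ θ w = θ 1 := by
  by_cases hc : IsConj t w
  · exact Or.inl hc
  right
  have h2 : p ≠ 2 := by omega
  obtain ⟨γ, hγ, hγ1, hγdef⟩ := D.exists_gamma h3 hθ hθ1 hθx
  have h := D.weighted_count h3 hθ hθ1 hθx (b := w) hγ hγ1 hγdef
  rw [Finset.sum_eq_zero fun m _ => by
    rcases eq_or_ne m 0 with rfl | hm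
    · simp [psi]
    · rw [D.no_pairs h2 hm hw hc, Nat.cast_zero, mul_zero]] at h
  have hK : ∀ g : G, (Nat.card {y : G // IsConj g y} : ℂ) ≠ 0 := fun g => by
    haveI : Nonempty {y : G // IsConj g y} := ⟨⟨g, IsConj.refl g⟩⟩
    exact Nat.cast_ne_zero.2 Nat.card_pos.ne'
  have hG0 : (Nat.card G : ℂ) ≠ 0 := Nat.cast_ne_zero.2 Nat.card_pos.ne'
  have hp0 : (p : ℂ) ≠ 0 := Nat.cast_ne_zero.2 hp.out.ne_zero
  have h' := (mul_eq_zero.1 h.symm).resolve_left
    (mul_ne_zero hp0 (div_ne_zero (mul_ne_zero (hK t) (hK w)) hG0))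
  have hp2 : (p : ℂ) - 2 ≠ 0 := by
    rw [← hγ1]; exact IsIrrCharacter.apply_one_ne_zero hγ
  rw [hγdef] at h'
  simp only [D.alpha_involution h2 D.t_sq D.t_ne, D.alpha_involution h2 hw hw1,
    D.theta_t h3 hθ hθ1 hθx] at h'
  field_simp at h'
  rw [hθ1]
  linear_combination -h'

theorem Dih.class_equation :
    (Nat.card {g : G // IsConj t g}) ^ 2 * (p - 1) = p * (p - 2) * Nat.card G := by
  have h2 : p ≠ 2 := by omega
  obtain ⟨γ, hγ, hγ1, hγdef⟩ := D.exists_gamma h3 hθ hθ1 hθx
  have h := D.weighted_count h3 hθ hθ1 hθx (b := t) hγ hγ1 hγdef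
  rw [Finset.sum_congr rfl fun m _ => show psi m * _ = psi m * (p : ℂ) from by
    rcases eq_or_ne m 0 with rfl | hm
    · simp [psi]
    · rw [D.card_pairs h2 hm], ← Finset.sum_mul, sum_psi] at h
  have hG0 : (Nat.card G : ℂ) ≠ 0 := Nat.cast_ne_zero.2 Nat.card_pos.ne'
  have hp0 : (p : ℂ) ≠ 0 := Nat.cast_ne_zero.2 hp.out.ne_zero
  have hp2 : (p : ℂ) - 2 ≠ 0 := by
    rw [← hγ1]; exact IsIrrCharacter.apply_one_ne_zero hγ
  have hγt : γ t = -1 := by
    rw [hγdef]
    simp only [D.alpha_involution h2 D.t_sq D.t_ne, D.theta_t h3 hθ hθ1 hθx]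
    norm_num
  rw [hγt] at h
  field_simp at h
  have h' : (((Nat.card {g : G // IsConj t g}) ^ 2 * (p - 1) : ℕ) : ℂ) =
      ((p * (p - 2) * Nat.card G : ℕ) : ℂ) := by
    push_cast [Nat.cast_sub (show 1 ≤ p by omega), Nat.cast_sub (show 2 ≤ p by omega)]
    linear_combination -h
  exact_mod_cast h'

variable (hker : ∀ g : G, θ g = θ 1 → g = 1)
include hker

theorem Dih.odd_class : ¬ 2 ∣ Nat.card {g : G // IsConj t g} := by
  haveI : Fact (Nat.Prime 2) := ⟨Nat.prime_two⟩
  obtain ⟨S⟩ : Nonempty (Sylow 2 G) := inferInstance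
  have h2G : 2 ∣ Nat.card G := by
    rw [← D.orderOf_t]
    exact orderOf_dvd_natCard t
  haveI : Nontrivial (S : Subgroup G) := by
    rw [Subgroup.nontrivial_iff_ne_bot]
    exact S.ne_bot_of_dvd_card h2G
  haveI := S.2.center_nontrivial
  have hd : 2 ∣ Nat.card (Subgroup.center (S : Subgroup G)) := by
    obtain ⟨k, hk, hk'⟩ := (S.2.to_subgroup (Subgroup.center _)).nontrivial_iff_card.1 inferInstance
    exact hk' ▸ dvd_pow_self 2 hk.ne'
  obtain ⟨w, hw⟩ := exists_prime_orderOf_dvd_card' 2 hd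
  have hwo : orderOf ((w : (S : Subgroup G)) : G) = 2 := by
    rw [Subgroup.orderOf_coe, Subgroup.orderOf_coe, hw]
  have hwsq : ((w : (S : Subgroup G)) : G) * ((w : (S : Subgroup G)) : G) = 1 := by
    have h := pow_orderOf_eq_one ((w : (S : Subgroup G)) : G)
    rwa [hwo, sq] at h
  have hw1 : ((w : (S : Subgroup G)) : G) ≠ 1 := fun h => by simp [h] at hwo
  have hle : (S : Subgroup G) ≤ Subgroup.centralizer {((w : (S : Subgroup G)) : G)} := by
    intro s hs
    rw [Subgroup.mem_centralizer_singleton_iff]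
    exact congrArg Subtype.val (Subgroup.mem_center_iff.1 w.2 ⟨s, hs⟩)
  rcases D.involution_eq h3 hθ hθ1 hθx hwsq hw1 with hc | hc
  · intro hd
    have : Nat.card {g : G // IsConj t g} =
        Nat.card {g : G // IsConj ((w : (S : Subgroup G)) : G) g} :=
      Nat.card_congr (Equiv.subtypeEquivRight fun g => ⟨hc.symm.trans, hc.trans⟩)
    rw [this, card_conj_class] at hd
    exact S.not_dvd_index (hd.trans (Subgroup.index_dvd_of_le hle))
  · exact absurd (hker _ hc) hw1

variable (hint : ∀ g : G, ∃ k : ℤ, θ g = k)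
include hint

/-- `p - 1` is the order of a Sylow `2`-subgroup, in particular a power of two. -/
theorem Dih.pred_eq_two_pow : p - 1 = 2 ^ (Nat.card G).factorization 2 := by
  classical
  set n := 2 ^ (Nat.card G).factorization 2 with hn
  have h2 : p ≠ 2 := by omega
  have hnG : n ∣ Nat.card G := Nat.ordProj_dvd _ _
  have hnp : n ∣ p - 1 := by
    have hco : Nat.Coprime n (Nat.card {g : G // IsConj t g} ^ 2) :=
      Nat.Coprime.pow _ _ ((Nat.prime_two.coprime_iff_not_dvd).2 (D.odd_class h3 hθ hθ1 hθx hker))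
    refine hco.dvd_of_dvd_mul_left ?_
    rw [D.class_equation h3 hθ hθ1 hθx]
    exact hnG.mul_left _
  have hpn : p ≤ 2 * n := by
    choose k hk using hint
    have hconj : ∀ g, conj (θ g) = θ g := fun g => by rw [hk]; simp
    obtain ⟨m, hm⟩ := hnG
    have hm0 : m ≠ 0 := fun h => by rw [h, mul_zero] at hm; exact Nat.card_pos.ne' hm
    have hcop : Nat.Coprime m n := by
      have h : m = Nat.card G / n := by rw [hm, Nat.mul_div_cancel_left _ (by positivity)]
      rw [h, hn]
      exact (Nat.Coprime.pow_left _ (Nat.coprime_ordCompl Nat.prime_two Nat.card_pos.ne')).symm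
    obtain ⟨j, hj, hj1, hj0⟩ := exists_exp hcop.symm (Nat.two_pow_pos _).ne' hm0
    let sec : Finset G := Finset.univ.filter fun g => IsConj (g ^ j) t
    let sing : Finset G := Finset.univ.filter fun g => ∃ i : ZMod p, i ≠ 0 ∧ IsConj (xpow x i) g
    have hone : Cfsg.IsIrrCharacter G (fun _ : G => (1 : ℂ)) := isIrrCharacter_one
    have hθne : θ ≠ fun _ => 1 := fun h => by
      have := congrFun h 1
      rw [hθ1] at this
      have h' : ((p : ℕ) : ℂ) = ((2 : ℕ) : ℂ) := by push_cast; linear_combination this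
      exact h2 (Nat.cast_injective h')
    -- the total norm
    have hall : ∑ g : G, (k g - 1) ^ 2 = 2 * (Nat.card G : ℤ) := by
      have h := sum_eq_card_mul_classInner (θ - fun _ => (1 : ℂ)) (θ - fun _ => (1 : ℂ))
      simp only [classInner_sub_left, classInner_sub_right, IsIrrCharacter.classInner_self hθ,
        IsIrrCharacter.classInner_self hone, IsIrrCharacter.classInner_of_ne hθ hone hθne,
        IsIrrCharacter.classInner_of_ne hone hθ (Ne.symm hθne)] at h
      simp only [Pi.sub_apply, map_sub, map_one, hconj] at h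
      have h' : ((∑ g : G, (k g - 1) ^ 2 : ℤ) : ℂ) = ((2 * (Nat.card G : ℤ) : ℤ) : ℂ) := by
        push_cast
        simp only [← hk, sq]
        rw [h]; ring
      exact_mod_cast h'
    -- the singular part
    have hsing : (p : ℤ) * ∑ g ∈ sing, (k g - 1) ^ 2 = 2 * (Nat.card G : ℤ) * ((p : ℤ) - 1) := by
      let f : ZMod p → ℂ := fun i => if i = 0 then 0 else 1
      let F : G → ℂ := (θ - fun _ => (1 : ℂ)) * (θ - fun _ => (1 : ℂ))
      have hF : Cfsg.IsClassFunction G F := fun a b => by
        simp only [F, Pi.mul_apply, Pi.sub_apply, IsIrrCharacter.isClassFunction hθ a b]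
      have hβ : ∀ g, Cfsg.indFun _ (onPow D.pow_p D.x_ne f) g = if g ∈ sing then 2 else 0 := by
        intro g
        by_cases hg : g ∈ sing
        · rw [if_pos hg]
          obtain ⟨i, hi, hc⟩ := (Finset.mem_filter.1 hg).2
          rw [← IsClassFunction.apply_eq_of_isConj (isClassFunction_indFun _ _) hc,
            D.indFun_xpow h2 f hi]
          simp only [f, if_neg hi, if_neg (neg_ne_zero.2 hi)]
          norm_num
        · rw [if_neg hg]
          refine (D.indFun_zero_or f (if_pos rfl) g).resolve_right fun h => hg ?_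
          exact Finset.mem_filter.2 ⟨Finset.mem_univ _, h⟩
      have h := sum_eq_card_mul_classInner (Cfsg.indFun _ (onPow D.pow_p D.x_ne f)) F
      rw [classInner_indFun_onPow D.pow_p D.x_ne f hF] at h
      have hR : ∀ i : ZMod p, f i * conj (F (xpow x i)) = if i = 0 then 0 else 4 := fun i => by
        rcases eq_or_ne i 0 with rfl | hi
        · simp [f]
        · simp only [f, F, if_neg hi, Pi.mul_apply, Pi.sub_apply, hθx i hi]
          simp only [map_mul, map_sub, map_neg, map_one]
          norm_num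
      have hR' : ∑ i : ZMod p, f i * conj (F (xpow x i)) = ((p : ℂ) - 1) * 4 := by
        simp only [hR]
        rw [← Finset.sum_erase_add _ _ (Finset.mem_univ (0 : ZMod p)), if_pos rfl, add_zero,
          Finset.sum_congr rfl fun i hi => if_neg (Finset.ne_of_mem_erase hi), Finset.sum_const,
          Finset.card_erase_of_mem (Finset.mem_univ _), Finset.card_univ, ZMod.card, nsmul_eq_mul,
          Nat.cast_pred hp.out.pos]
      rw [hR'] at h
      simp only [hβ, ite_mul, zero_mul] at h
      rw [← Finset.sum_filter, Finset.filter_mem_eq_inter, Finset.univ_inter, ← Finset.mul_sum] at h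
      have h' : (((p : ℤ) * ∑ g ∈ sing, (k g - 1) ^ 2 : ℤ) : ℂ) =
          ((2 * (Nat.card G : ℤ) * ((p : ℤ) - 1) : ℤ) : ℂ) := by
        push_cast
        have hF' : ∀ g ∈ sing, conj (F g) = ((k g : ℂ) - 1) ^ 2 := fun g _ => by
          simp [F, hk, sq]
        rw [Finset.sum_congr rfl hF'] at h
        have hp0 : (p : ℂ) ≠ 0 := Nat.cast_ne_zero.2 hp.out.ne_zero
        field_simp at h
        linear_combination h / 2
      exact_mod_cast h'
    -- the two-section of `t`
    have htj : t ^ j = t := by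
      refine pow_part_eq_self hj1 hj0 ?_
      obtain ⟨c, hc⟩ : 2 ∣ n := by
        have : 2 ∣ Nat.card G := by
          rw [← D.orderOf_t]
          exact orderOf_dvd_natCard t
        exact dvd_pow_self 2 (Nat.Prime.factorization_pos_of_dvd Nat.prime_two Nat.card_pos.ne'
          this).ne'
      rw [hc, pow_mul, sq, D.t_sq, one_pow]
    have hdisj : Disjoint sec sing := by
      rw [Finset.disjoint_left]
      intro g hg hg'
      obtain ⟨i, -, hc⟩ := (Finset.mem_filter.1 hg').2
      obtain ⟨c, rfl⟩ := isConj_iff.1 hc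
      obtain ⟨d, hd⟩ := isConj_iff.1 (Finset.mem_filter.1 hg).2
      have hxp : t ^ p = 1 := by
        rw [← hd, conj_pow, ← pow_mul, mul_comm, pow_mul, conj_pow, xpow_pow D.pow_p,
          ZMod.natCast_self, zero_mul, xpow_zero]
        simp
      have hord := orderOf_dvd_of_pow_eq_one hxp
      rw [D.orderOf_t, Nat.prime_dvd_prime_iff_eq Nat.prime_two
        hp.out] at hord
      exact h2 hord.symm
    have hle : (p : ℤ) * ∑ g ∈ sec, (k g - 1) ^ 2 ≤ 2 * (Nat.card G : ℤ) := by
      have hsub : ∑ g ∈ sec, (k g - 1) ^ 2 + ∑ g ∈ sing, (k g - 1) ^ 2 ≤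
          ∑ g : G, (k g - 1) ^ 2 := by
        rw [← Finset.sum_union hdisj]
        exact Finset.sum_le_sum_of_subset_of_nonneg (Finset.subset_univ _)
          fun g _ _ => sq_nonneg _
      have := mul_le_mul_of_nonneg_left hsub (Int.natCast_nonneg p)
      rw [mul_add, hsing, hall] at this
      nlinarith
    -- integrality
    have hint' : ∀ χ : G → ℂ, Cfsg.IsCharacter G χ →
        IsIntegral ℤ (Cfsg.classInner (sectionFun n j t) χ) := fun χ hχ =>
      isIntegral_classInner_sectionFun (hm.trans (mul_comm n m)) hcop hj hj1 hj0 t hχ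
    have hR : IsIntegral ℤ (Cfsg.classInner (sectionFun n j t) (θ * θ) -
        (2 : ℕ) * Cfsg.classInner (sectionFun n j t) θ +
        Cfsg.classInner (sectionFun n j t) (fun _ => 1)) :=
      ((hint' _ (IsCharacter.mul (IsIrrCharacter.isCharacter hθ)
        (IsIrrCharacter.isCharacter hθ))).sub
        ((isIntegral_algebraMap (R := ℤ) (A := ℂ) (x := ((2 : ℕ) : ℤ))).mul
          (hint' _ (IsIrrCharacter.isCharacter hθ)))).add (hint' _ isCharacter_one)
    have hG0 : (Nat.card G : ℂ) ≠ 0 := Nat.cast_ne_zero.2 Nat.card_pos.ne'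
    have hval : Cfsg.classInner (sectionFun n j t) (θ * θ) -
        (2 : ℕ) * Cfsg.classInner (sectionFun n j t) θ +
        Cfsg.classInner (sectionFun n j t) (fun _ => 1) =
        (n : ℂ) * ((∑ g ∈ sec, (k g - 1) ^ 2 : ℤ) : ℂ) / (Nat.card G : ℂ) := by
      have hlin : ∀ A X Y Z : ℂ, A * X - 2 * (A * Y) + A * Z = A * (X - 2 * Y + Z) := by
        intros; ring
      simp only [classInner_def, sectionFun, Pi.mul_apply, map_mul, map_one, hconj]
      push_cast
      rw [hlin, div_eq_inv_mul]
      congr 1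
      simp only [Finset.mul_sum, sec, Finset.sum_filter, ← Finset.sum_sub_distrib,
        ← Finset.sum_add_distrib]
      refine Finset.sum_congr rfl fun g _ => ?_
      split_ifs <;> simp only [hk] <;> ring
    obtain ⟨z, hz, -⟩ := exists_int_of_isIntegral_rat
      ((n : ℚ) * (∑ g ∈ sec, (k g - 1) ^ 2 : ℤ) / (Nat.card G : ℚ)) hR
      (by rw [hval]; push_cast; ring)
    have hzZ : (n : ℤ) * ∑ g ∈ sec, (k g - 1) ^ 2 = (Nat.card G : ℤ) * z := by
      rw [hval, div_eq_iff hG0] at hz
      have h' : (((n : ℤ) * ∑ g ∈ sec, (k g - 1) ^ 2 : ℤ) : ℂ) =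
          (((Nat.card G : ℤ) * z : ℤ) : ℂ) := by
        rw [Int.cast_mul, Int.cast_natCast, hz]; push_cast; ring
      exact_mod_cast h'
    have hkt : k t = 0 := by
      have := hk t
      rw [D.theta_t h3 hθ hθ1 hθx] at this
      exact_mod_cast this.symm
    have hsec1 : (1 : ℤ) ≤ ∑ g ∈ sec, (k g - 1) ^ 2 := by
      refine le_trans ?_ (Finset.single_le_sum (f := fun g => (k g - 1) ^ 2)
        (fun g _ => sq_nonneg _)
        (Finset.mem_filter.2 ⟨Finset.mem_univ t, by rw [htj]⟩))
      simp [hkt]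
    have hn0 : (0 : ℤ) < n := by exact_mod_cast Nat.two_pow_pos _
    have hG : (0 : ℤ) < Nat.card G := by exact_mod_cast Nat.card_pos
    have hz0 : 0 < z := pos_of_mul_pos_right (hzZ ▸ mul_pos hn0 (by linarith)) hG.le
    have hgoal : (p : ℤ) * (∑ g ∈ sec, (k g - 1) ^ 2) ≤
        2 * (n : ℤ) * ∑ g ∈ sec, (k g - 1) ^ 2 := by
      nlinarith
    have := le_of_mul_le_mul_right hgoal (by linarith)
    exact_mod_cast this
  obtain ⟨c, hc⟩ := hnp
  rcases c with _ | _ | c
  · omega
  · rw [hc]; ring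
  · have h4 : n * 2 ≤ n * (c + 1 + 1) := Nat.mul_le_mul_left _ (by omega)
    omega

end CfsgLib.TwoPrime
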