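/-
The centralizer algebra of a multiplicity-free permutation character: coordinates with respect to
the central idempotents.
-/
import Cfsg.Agent.Perm.WielandtRankThree

set_option autoImplicit false
set_option linter.style.haveILetI false

namespace CfsgLib.TwoPrime

open MulAction Module CfsgLib.Char CfsgLib.CentralizerRing
open scoped ComplexConjugate

universe u v

variable {G : Type u} [Group G] [Fintype G] {Ω : Type v} [MulAction G Ω] [Fintype Ω]

/-- The constituents of the permutation character. -/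
noncomputable def cons (G : Type u) [Group G] [Fintype G] (Ω : Type v) [MulAction G Ω] [Fintype Ω] :
    Finset (G → ℂ) := by
  classical exact (irrFinset G).filter fun χ => Cfsg.classInner (pi G Ω) χ ≠ 0

theorem mem_cons {χ : G → ℂ} :
    χ ∈ cons G Ω ↔ Cfsg.IsIrrCharacter G χ ∧ Cfsg.classInner (pi G Ω) χ ≠ 0 := by
  classical
  rw [cons, Finset.mem_filter, mem_irrFinset]

/-- The central idempotent of an irreducible character. -/
noncomputable def idem (χ : G → ℂ) : Module.End ℂ (Ω → ℂ) :=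
  (χ 1 / (Nat.card G : ℂ)) • op fun g => conj (χ g)

/-- The permutation character is multiplicity free. -/
def MultFree (G : Type u) [Group G] [Fintype G] (Ω : Type v) [MulAction G Ω] [Fintype Ω] : Prop :=
  ∀ χ : G → ℂ, Cfsg.IsIrrCharacter G χ →
    Cfsg.classInner (pi G Ω) χ = 0 ∨ Cfsg.classInner (pi G Ω) χ = 1

theorem MultFree.eq_one (hmf : MultFree G Ω) {χ : G → ℂ} (h : χ ∈ cons G Ω) :
    Cfsg.classInner (pi G Ω) χ = 1 :=
  (hmf χ (mem_cons.1 h).1).resolve_left (mem_cons.1 h).2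

theorem idem_mul_idem [DecidableEq (G → ℂ)] {χ ψ : G → ℂ} (hχ : Cfsg.IsIrrCharacter G χ)
    (hψ : Cfsg.IsIrrCharacter G ψ) :
    (idem χ * idem ψ : Module.End ℂ (Ω → ℂ)) = if ψ = χ then idem ψ else 0 := by
  have hψ1 := IsIrrCharacter.apply_one_ne_zero hψ
  have hG : (Nat.card G : ℂ) ≠ 0 := by exact_mod_cast Nat.card_pos.ne'
  obtain ⟨n, hn, hn1⟩ := IsIrrCharacter.exists_degree hψ
  obtain ⟨m, hm, hm1⟩ := IsIrrCharacter.exists_degree hχ
  have hconv : (fun x => ∑ g, conj (χ g) * conj (ψ (g⁻¹ * x))) =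
      fun x => if ψ = χ then (Nat.card G : ℂ) / ψ 1 * conj (ψ x) else 0 := by
    funext x
    have h := congrArg conj (sum_conj_mul_char hχ hψ x)
    simp only [map_sum, map_mul, Complex.conj_conj, map_div₀, map_natCast, classInner_conj] at h
    rw [Finset.sum_congr rfl fun g _ =>
      show conj (χ g) * conj (ψ (g⁻¹ * x)) = χ g⁻¹ * conj (ψ (g⁻¹ * x)) by
        rw [IsIrrCharacter.apply_inv hχ],
      Fintype.sum_equiv (Equiv.inv G) (fun g => χ g⁻¹ * conj (ψ (g⁻¹ * x)))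
        (fun g => χ g * conj (ψ (g * x))) fun g => rfl, h,
      IsIrrCharacter.classInner_eq hχ hψ, hn1, Complex.conj_natCast]
    by_cases e : ψ = χ
    · rw [if_pos e, if_pos e.symm, mul_one]
    · rw [if_neg e, if_neg (Ne.symm e)]; simp
  rw [idem, idem, smul_mul_assoc, mul_smul_comm, WielandtRankThree.op_mul, hconv, smul_smul]
  by_cases e : ψ = χ
  · subst e
    simp only [if_true]
    simp only [op, Finset.smul_sum, smul_smul]
    refine Finset.sum_congr rfl fun g _ => ?_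
    congr 1
    field_simp
  · simp [e, op]

theorem trace_idem_mul (hmf : MultFree G Ω) {χ : G → ℂ} (hχ : χ ∈ cons G Ω) (h : G) :
    LinearMap.trace ℂ (Ω → ℂ) (idem χ * Cfsg.permRep ℂ G Ω h) = χ h := by
  have hχ' := (mem_cons.1 hχ).1
  have hχ1 := IsIrrCharacter.apply_one_ne_zero hχ'
  have hG : (Nat.card G : ℂ) ≠ 0 := by exact_mod_cast Nat.card_pos.ne'
  rw [idem, smul_mul_assoc, map_smul, trace_op_mul hχ', hmf.eq_one hχ, smul_eq_mul]
  field_simp

/-- The coordinate of an operator at a constituent. -/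
noncomputable def coef (S : Module.End ℂ (Ω → ℂ)) (χ : G → ℂ) : ℂ :=
  LinearMap.trace ℂ (Ω → ℂ) (S * idem χ) / χ 1

theorem coef_sum (hmf : MultFree G Ω) (a : (G → ℂ) → ℂ) {χ : G → ℂ} (hχ : χ ∈ cons G Ω) :
    coef (∑ ψ ∈ cons G Ω, a ψ • idem (Ω := Ω) ψ) χ = a χ := by
  classical
  have hχ1 := IsIrrCharacter.apply_one_ne_zero (mem_cons.1 hχ).1
  rw [coef, Finset.sum_mul, map_sum, Finset.sum_eq_single χ]
  · rw [smul_mul_assoc, map_smul, idem_mul_idem (mem_cons.1 hχ).1 (mem_cons.1 hχ).1, if_pos rfl]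
    have := trace_idem_mul hmf hχ 1
    rw [map_one, mul_one] at this
    rw [this, smul_eq_mul, mul_div_assoc, div_self hχ1, mul_one]
  · intro ψ hψ hne
    rw [smul_mul_assoc, idem_mul_idem (mem_cons.1 hψ).1 (mem_cons.1 hχ).1,
      if_neg (Ne.symm hne), smul_zero, map_zero]
  · exact fun h => absurd hχ h

theorem exists_coordinates (hmf : MultFree G Ω) {S : Module.End ℂ (Ω → ℂ)}
    (hS : S ∈ ((Cfsg.permRep ℂ G Ω).linHom (Cfsg.permRep ℂ G Ω)).invariants) :
    ∃ a : (G → ℂ) → ℂ, S = ∑ ψ ∈ cons G Ω, a ψ • idem ψ := by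
  classical
  have h := mem_span_op hmf hS
  clear hS
  induction h using Submodule.span_induction with
  | mem U hU =>
    obtain ⟨χ, hχ, hne, rfl⟩ := hU
    have hmem : χ ∈ cons G Ω := mem_cons.2 ⟨hχ, hne⟩
    have hG : (Nat.card G : ℂ) ≠ 0 := by exact_mod_cast Nat.card_pos.ne'
    refine ⟨fun ψ => if ψ = χ then (Nat.card G : ℂ) / χ 1 else 0, ?_⟩
    rw [Finset.sum_eq_single χ (fun ψ _ hne => by simp only [if_neg hne, zero_smul])
      (fun h => absurd hmem h)]
    simp only [if_true]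
    rw [idem, smul_smul,
      div_mul_div_cancel₀ (IsIrrCharacter.apply_one_ne_zero hχ), div_self hG, one_smul]
  | zero => exact ⟨0, by simp⟩
  | add U V _ _ hU hV =>
    obtain ⟨a, rfl⟩ := hU
    obtain ⟨b, rfl⟩ := hV
    exact ⟨a + b, by simp [add_smul, Finset.sum_add_distrib]⟩
  | smul c U _ hU =>
    obtain ⟨a, rfl⟩ := hU
    exact ⟨c • a, by simp [Finset.smul_sum, smul_smul]⟩

theorem eq_sum (hmf : MultFree G Ω) {S : Module.End ℂ (Ω → ℂ)}
    (hS : S ∈ ((Cfsg.permRep ℂ G Ω).linHom (Cfsg.permRep ℂ G Ω)).invariants) :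
    S = ∑ ψ ∈ cons G Ω, coef S ψ • idem ψ := by
  obtain ⟨a, ha⟩ := exists_coordinates hmf hS
  conv_lhs => rw [ha]
  exact Finset.sum_congr rfl fun ψ hψ => by rw [ha, coef_sum hmf a hψ]

theorem trace_mul_rep (hmf : MultFree G Ω) {S : Module.End ℂ (Ω → ℂ)}
    (hS : S ∈ ((Cfsg.permRep ℂ G Ω).linHom (Cfsg.permRep ℂ G Ω)).invariants) (h : G) :
    LinearMap.trace ℂ (Ω → ℂ) (S * Cfsg.permRep ℂ G Ω h) =
      ∑ ψ ∈ cons G Ω, coef S ψ * ψ h := by
  conv_lhs => rw [eq_sum hmf hS]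
  rw [Finset.sum_mul, map_sum]
  exact Finset.sum_congr rfl fun ψ hψ => by
    rw [smul_mul_assoc, map_smul, trace_idem_mul hmf hψ, smul_eq_mul]

omit [Fintype G] in
theorem mul_mem_invariants {S T : Module.End ℂ (Ω → ℂ)}
    (hS : S ∈ ((Cfsg.permRep ℂ G Ω).linHom (Cfsg.permRep ℂ G Ω)).invariants)
    (hT : T ∈ ((Cfsg.permRep ℂ G Ω).linHom (Cfsg.permRep ℂ G Ω)).invariants) :
    S * T ∈ ((Cfsg.permRep ℂ G Ω).linHom (Cfsg.permRep ℂ G Ω)).invariants := by
  rw [mem_invariants_iff] at hS hT ⊢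
  intro g v
  simp only [Module.End.mul_apply, hT, hS]

theorem coef_mul (hmf : MultFree G Ω) {S T : Module.End ℂ (Ω → ℂ)}
    (hS : S ∈ ((Cfsg.permRep ℂ G Ω).linHom (Cfsg.permRep ℂ G Ω)).invariants)
    (hT : T ∈ ((Cfsg.permRep ℂ G Ω).linHom (Cfsg.permRep ℂ G Ω)).invariants) {χ : G → ℂ}
    (hχ : χ ∈ cons G Ω) : coef (S * T) χ = coef S χ * coef T χ := by
  classical
  have h : S * T = ∑ ψ ∈ cons G Ω, (coef S ψ * coef T ψ) • idem ψ := by
    conv_lhs => rw [eq_sum hmf hS, eq_sum hmf hT, Finset.sum_mul]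
    refine Finset.sum_congr rfl fun ψ hψ => ?_
    rw [Finset.mul_sum, Finset.sum_eq_single ψ]
    · rw [smul_mul_smul_comm, idem_mul_idem (mem_cons.1 hψ).1 (mem_cons.1 hψ).1, if_pos rfl]
    · intro φ hφ hne
      rw [smul_mul_smul_comm, idem_mul_idem (mem_cons.1 hψ).1 (mem_cons.1 hφ).1, if_neg hne,
        smul_zero]
    · exact fun h => absurd hψ h
  rw [h, coef_sum hmf _ hχ]

theorem one_mem_cons [IsPretransitive G Ω] [Nonempty Ω] : (fun _ : G => (1 : ℂ)) ∈ cons G Ω :=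
  mem_cons.2 ⟨isIrrCharacter_one, by rw [classInner_pi_one_transitive]; exact one_ne_zero⟩

/-- The coordinate at the trivial constituent is the row sum. -/
theorem coef_one (hmf : MultFree G Ω) [IsPretransitive G Ω] [Nonempty Ω]
    {S : Module.End ℂ (Ω → ℂ)} {c : ℂ}
    (hc : S (fun _ => 1) = c • fun _ => (1 : ℂ)) : coef S (fun _ : G => (1 : ℂ)) = c := by
  have hE : ∀ v, ∃ a : ℂ, idem (Ω := Ω) (fun _ : G => (1 : ℂ)) v = a • fun _ => (1 : ℂ) := by
    intro v
    refine ⟨idem (Ω := Ω) (fun _ : G => (1 : ℂ)) v (Classical.arbitrary Ω), funext fun x => ?_⟩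
    obtain ⟨g, rfl⟩ := exists_smul_eq G (Classical.arbitrary Ω) x
    simp only [idem, op, map_one, one_smul, LinearMap.smul_apply, LinearMap.sum_apply,
      Pi.smul_apply, Finset.sum_apply, permRep_apply, smul_eq_mul, mul_one]
    congr 1
    refine (Fintype.sum_equiv (Equiv.mulLeft g) _ _ fun h => ?_).symm
    simp [mul_smul]
  have h : S * idem (Ω := Ω) (fun _ : G => (1 : ℂ)) =
      c • idem (Ω := Ω) (fun _ : G => (1 : ℂ)) := by
    refine LinearMap.ext fun v => ?_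
    obtain ⟨a, ha⟩ := hE v
    rw [Module.End.mul_apply, LinearMap.smul_apply, ha, map_smul, hc, smul_comm]
  have := trace_idem_mul (Ω := Ω) hmf one_mem_cons 1
  rw [map_one, mul_one] at this
  rw [coef, h, map_smul, this, smul_eq_mul, mul_one, div_one]

end CfsgLib.TwoPrime
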