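/-
Wielandt's theorem on primitive groups of degree `2p`: the arithmetic core, excluding rank at
least four.

The data: the non-diagonal orbitals `O`, their subdegrees `k`, the eigenvalues `lam` on the
constituent of degree `p`, the functions `w` on `ZMod p` counting meetings of an orbital with the
powers of an element of order `p`, which are constant on the cosets of a subgroup `H` of units.
-/
import Mathlib.Data.ZMod.Basic
import Mathlib.Algebra.Field.ZMod
import Mathlib.FieldTheory.Finite.Basic
import Mathlib.GroupTheory.Index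
import Mathlib.Tactic

set_option autoImplicit false

namespace CfsgLib.TwoPrime

open Finset

universe u

variable {p : ℕ} [Fact p.Prime]

/-- Weighted count of the zero-sum triples. -/
def tri (A B C : ZMod p → ℤ) : ℤ := ∑ x, ∑ y, A x * B y * C (-x - y)

/-- Shifting a function at zero. -/
def shift (A : ZMod p → ℤ) (a : ℤ) (x : ZMod p) : ℤ := A x - if x = 0 then a else 0

theorem tri_rot (A B C : ZMod p → ℤ) : tri A B C = tri C A B := by
  have h : ∀ x, ∑ y, A x * B y * C (-x - y) = ∑ z, C z * A x * B (-z - x) := by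
    intro x
    refine Fintype.sum_equiv (Equiv.subLeft (-x)) _ _ fun y => ?_
    simp only [Equiv.subLeft_apply]
    rw [show -(-x - y) - x = y by ring]
    ring
  rw [tri, tri, Finset.sum_congr rfl fun x _ => h x, Finset.sum_comm]

theorem tri_shift {A B C : ZMod p → ℤ} (a b c : ℤ) (hA : A 0 = 0) (hB : B 0 = 0) (hC : C 0 = 0) :
    tri (shift A a) (shift B b) (shift C c) =
      tri A B C - a * ∑ y, B y * C (-y) - b * ∑ x, A x * C (-x) - c * ∑ x, A x * B (-x) -
        a * b * c := by
  classical
  have h : ∀ x y : ZMod p, shift A a x * shift B b y * shift C c (-x - y) =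
      A x * B y * C (-x - y) - (if x = 0 then a * (B y * C (-y)) else 0) -
      (if y = 0 then b * (A x * C (-x)) else 0) - (if y = -x then c * (A x * B (-x)) else 0) -
      (if x = 0 then if y = 0 then a * b * c else 0 else 0) := by
    intro x y
    have hxy : -x - y = 0 ↔ y = -x := ⟨fun h => by linear_combination -h, fun h => by rw [h]; ring⟩
    by_cases hx : x = 0 <;> by_cases hy : y = 0 <;> by_cases hz : y = -x <;>
      simp_all [shift] <;> ring
  simp only [tri, h, Finset.sum_sub_distrib]
  simp [Finset.mul_sum, Finset.sum_ite_eq', Finset.sum_ite_irrel]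

theorem sum_eq_sum_units (f : ZMod p → ℤ) (h0 : f 0 = 0) :
    ∑ x, f x = ∑ u : (ZMod p)ˣ, f (u : ZMod p) := by
  classical
  rw [← Finset.sum_image (f := f) (g := fun u : (ZMod p)ˣ => (u : ZMod p))
    (fun u _ v _ h => Units.ext h)]
  refine (Finset.sum_subset (Finset.subset_univ _) fun x _ hx => ?_).symm
  rw [show x = 0 from by_contra fun hne => hx (Finset.mem_image.2 ⟨Units.mk0 x hne, mem_univ _, rfl⟩),
    h0]

theorem final_arith {e : ℤ} (he : 2 ≤ e) {N : ℤ} (h1 : (e * (2 * e - 1)) ∣ N)
    (h2 : 2 * (e * (2 * e - 1)) ∣ 4 * e * (2 * e * (e - 1)) + 4 * N) : False := by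
  obtain ⟨q, hq⟩ := h1
  obtain ⟨r, hr⟩ := h2
  subst hq
  have h3 : (e * e) * (4 * (e - 1)) = (e * (2 * e - 1)) * (r - 2 * q) :=
    mul_left_cancel₀ (two_ne_zero' ℤ) (by linear_combination hr)
  have h4 : 4 * e * (e - 1) = (2 * e - 1) * (r - 2 * q) := by
    refine mul_left_cancel₀ (show e ≠ 0 by omega) ?_
    linear_combination h3
  have h5 : (2 * e - 1) ∣ 1 := ⟨2 * e - 1 - (r - 2 * q), by linear_combination -h4⟩
  have := Int.le_of_dvd one_pos h5
  omega

section Core

variable {H : Subgroup (ZMod p)ˣ} {O : Type u} [Fintype O] [DecidableEq O]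

/-- The indicator of the coset of `c`. -/
noncomputable def ind (H : Subgroup (ZMod p)ˣ) (c : (ZMod p)ˣ) (m : ZMod p) : ℤ := by
  classical exact if ∃ h ∈ H, m = (c * h : (ZMod p)ˣ) then 1 else 0

theorem ind_zero (c : (ZMod p)ˣ) : ind H c 0 = 0 := by
  classical
  rw [ind, if_neg]
  rintro ⟨h, -, e⟩
  exact Units.ne_zero _ e.symm

theorem ind_scale (t c : (ZMod p)ˣ) (m : ZMod p) :
    ind H (t * c) ((t : ZMod p) * m) = ind H c m := by
  classical
  rw [ind, ind]
  refine if_congr ⟨?_, ?_⟩ rfl rfl
  · rintro ⟨h, hh, e⟩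
    refine ⟨h, hh, mul_left_cancel₀ (Units.ne_zero t) ?_⟩
    rw [e]; simp only [Units.val_mul]; ring
  · rintro ⟨h, hh, e⟩
    exact ⟨h, hh, by rw [e]; simp only [Units.val_mul]; ring⟩

theorem tri_scale (t a b c : (ZMod p)ˣ) :
    tri (ind H (t * a)) (ind H (t * b)) (ind H (t * c)) = tri (ind H a) (ind H b) (ind H c) := by
  unfold tri
  refine (Fintype.sum_equiv (Equiv.mulLeft₀ (t : ZMod p) (Units.ne_zero t)) _ _ fun x => ?_).symm
  refine Fintype.sum_equiv (Equiv.mulLeft₀ (t : ZMod p) (Units.ne_zero t)) _ _ fun y => ?_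
  simp only [Equiv.mulLeft₀_apply]
  rw [show -((t : ZMod p) * x) - (t : ZMod p) * y = (t : ZMod p) * (-x - y) by ring, ind_scale,
    ind_scale, ind_scale]

set_option maxHeartbeats 800000 in
/-- There is no configuration with at least three non-diagonal orbitals. -/
theorem no_config {s : ℕ} (hs : 2 ≤ s) (hH : H.index = s) (hO : Fintype.card O = s + 1)
    (w : O → ZMod p → ℕ) (lam : O → ℤ) (k : O → ℕ) (τ : O → O)
    (hw0 : ∀ o, w o 0 = 0)
    (hwH : ∀ o (u h : (ZMod p)ˣ), h ∈ H → w o ((u * h : (ZMod p)ˣ) : ZMod p) = w o (u : ZMod p))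
    (hsum : ∀ m : ZMod p, m ≠ 0 → ∑ o, w o m = 2)
    (hneg : ∀ o m, w o (-m) = w (τ o) m)
    (hk : ∀ o, 2 ≤ k o)
    (hlam : ∀ o, lam o = (∑ m, (w o m : ℤ)) - k o)
    (horth : ∀ o o', 2 * lam o * lam o' + ∑ m, (w o m : ℤ) * w o' m =
      if o = o' then 2 * (k o : ℤ) else 0)
    (htriple : ∀ a b c, (2 * (k a : ℤ)) ∣ lam a * lam b * lam c +
      tri (shift (fun m => (w a m : ℤ)) (lam a)) (shift (fun m => (w b m : ℤ)) (lam b))
        (shift (fun m => (w c m : ℤ)) (lam c))) : False := by
  classical
  let v : O → (ZMod p)ˣ → ℕ := fun o u => w o (u : ZMod p)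
  have hvsum : ∀ u, ∑ o, v o u = 2 := fun u => hsum _ (Units.ne_zero u)
  have hv2 : ∀ o u, v o u ≤ 2 := fun o u =>
    (Finset.single_le_sum (f := fun o => v o u) (fun i _ => Nat.zero_le _) (mem_univ o)).trans
      (hvsum u).le
  have htwo : ∀ o o' u, o ≠ o' → v o u + v o' u ≤ 2 := fun o o' u hne => by
    rw [← Finset.sum_pair (f := fun o => v o u) hne]
    exact (Finset.sum_le_sum_of_subset (Finset.subset_univ _)).trans (hvsum u).le
  have hlam' : ∀ o, lam o = (∑ u, (v o u : ℤ)) - k o := fun o => by
    rw [hlam, sum_eq_sum_units _ (by simp [hw0])]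
  have horth' : ∀ o o', 2 * lam o * lam o' + ∑ u, (v o u : ℤ) * v o' u =
      if o = o' then 2 * (k o : ℤ) else 0 := fun o o' => by
    rw [← horth o o', sum_eq_sum_units (fun m => (w o m : ℤ) * w o' m) (by simp [hw0])]
  let U : O → Finset (ZMod p)ˣ := fun o => univ.filter fun u => v o u = 1
  let T : O → Finset (ZMod p)ˣ := fun o => univ.filter fun u => v o u = 2
  have hself : ∀ o, ((U o).card : ℤ) = 2 * lam o * (lam o + 1) := by
    intro o
    have h1 := horth' o o
    rw [if_pos rfl] at h1
    have h2 : ((U o).card : ℤ) = 2 * ∑ u, (v o u : ℤ) - ∑ u, (v o u : ℤ) * v o u := by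
      rw [Finset.mul_sum, ← Finset.sum_sub_distrib, show ((U o).card : ℤ) =
        ∑ u, if v o u = 1 then (1 : ℤ) else 0 by rw [Finset.sum_boole]]
      refine Finset.sum_congr rfl fun u _ => ?_
      rcases (show v o u = 0 ∨ v o u = 1 ∨ v o u = 2 by have := hv2 o u; omega) with e | e | e <;>
        simp [e]
    linear_combination h2 - h1 - 2 * hlam' o
  have hpos : ∀ o, ∃ u, v o u ≠ 0 := by
    intro o
    by_contra hall
    push Not at hall
    have h1 := hlam' o
    have h2 := hself o
    have hU : U o = ∅ := Finset.filter_eq_empty_iff.2 fun u _ => by rw [hall]; omega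
    rw [hU, Finset.card_empty, Nat.cast_zero] at h2
    simp only [hall, Nat.cast_zero, Finset.sum_const_zero, zero_sub] at h1
    have := hk o
    rcases mul_eq_zero.1 h2.symm with h | h <;> omega
  -- classes
  let f := (univ.filter (· ∈ H) : Finset (ZMod p)ˣ).card
  have hf : 0 < f := Finset.card_pos.2 ⟨1, by simp⟩
  have htot : s * f = Fintype.card (ZMod p)ˣ := by
    rw [← hH, ← Nat.card_eq_fintype_card, ← H.index_mul_card, Nat.card_eq_fintype_card (α := H),
      Fintype.card_subtype]
  let cos : (ZMod p)ˣ → Finset (ZMod p)ˣ := fun c => (univ.filter (· ∈ H)).image (c * ·)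
  have hcos : ∀ c, (cos c).card = f := fun c =>
    Finset.card_image_of_injective _ (mul_right_injective c)
  have hvH : ∀ o u h, h ∈ H → v o (u * h) = v o u := fun o u h hh => hwH o u h hh
  have hcosT : ∀ o c, c ∈ T o → cos c ⊆ T o := fun o c hc x hx => by
    obtain ⟨h, hh, rfl⟩ := Finset.mem_image.1 hx
    simp only [T, mem_filter, mem_univ, true_and] at hc hh ⊢
    rw [hvH o c h hh, hc]
  have hTf : ∀ o c, c ∈ T o → f ≤ (T o).card := fun o c hc =>
    (hcos c) ▸ Finset.card_le_card (hcosT o c hc)
  have hcosU : ∀ o c, c ∈ U o → cos c ⊆ U o := fun o c hc x hx => by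
    obtain ⟨h, hh, rfl⟩ := Finset.mem_image.1 hx
    simp only [U, mem_filter, mem_univ, true_and] at hc hh ⊢
    rw [hvH o c h hh, hc]
  -- some class is split
  obtain ⟨A, u0, hu0⟩ : ∃ A, ∃ u, v A u = 1 := by
    by_contra hno
    push Not at hno
    have h1 : ∀ o, f ≤ (T o).card := fun o => by
      obtain ⟨u, hu⟩ := hpos o
      exact hTf o u (by simp [T]; have := hv2 o u; have := hno o u; omega)
    have h2 : ∑ o, (T o).card ≤ Fintype.card (ZMod p)ˣ := by
      rw [← Finset.card_biUnion]
      · exact Finset.card_le_univ _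
      · intro a _ b _ hab
        simp only [Function.onFun, T, Finset.disjoint_left, mem_filter, mem_univ, true_and]
        intro u ha hb
        have := htwo a b u hab
        omega
    have h3 := Finset.card_nsmul_le_sum univ (fun o => (T o).card) f fun o _ => h1 o
    rw [Finset.card_univ, hO, smul_eq_mul] at h3
    nlinarith
  obtain ⟨A', hAA', hu0'⟩ : ∃ A', A' ≠ A ∧ v A' u0 = 1 := by
    have h := hvsum u0
    rw [← Finset.add_sum_erase _ _ (mem_univ A), hu0] at h
    have h' : ∑ o ∈ univ.erase A, v o u0 = 1 := by omega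
    obtain ⟨b, hb, hne⟩ := Finset.exists_ne_zero_of_sum_ne_zero (h'.trans_ne one_ne_zero)
    refine ⟨b, Finset.ne_of_mem_erase hb, ?_⟩
    have := Finset.single_le_sum (f := fun o => v o u0) (fun i _ => Nat.zero_le _) hb
    omega
  have hUne : ∀ o u, v o u = 1 → lam o ≠ 0 := fun o u hu e => by
    have h := hself o
    rw [e, mul_zero, zero_mul, Nat.cast_eq_zero, Finset.card_eq_zero] at h
    exact (Finset.notMem_empty u) (h ▸ (by simp [U, hu]))
  have hle : ∀ a b, a ≠ b → lam a * lam b ≤ 0 := fun a b hab => by
    have h := horth' a b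
    rw [if_neg hab] at h
    have : (0 : ℤ) ≤ ∑ u, (v a u : ℤ) * v b u := Finset.sum_nonneg fun u _ => by positivity
    linarith
  have honly : ∀ o, (∃ u, v o u = 1) → o = A ∨ o = A' := by
    rintro o ⟨u, hu⟩
    by_contra hno
    push Not at hno
    have h0 := hUne A u0 hu0
    have h0' := hUne A' u0 hu0'
    have h1 := hUne o u hu
    have e1 : lam A * lam A' < 0 := lt_of_le_of_ne (hle A A' (Ne.symm hAA')) (mul_ne_zero h0 h0')
    have e2 : lam o * lam A < 0 := lt_of_le_of_ne (hle o A hno.1) (mul_ne_zero h1 h0)
    have e3 : lam o * lam A' < 0 := lt_of_le_of_ne (hle o A' hno.2) (mul_ne_zero h1 h0')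
    nlinarith [mul_pos_of_neg_of_neg e1 e2, mul_self_pos.2 h0]
  have hboth : ∀ u, v A u = 1 ↔ v A' u = 1 := by
    intro u
    constructor <;> intro h
    · have hs' := hvsum u
      rw [← Finset.add_sum_erase _ _ (mem_univ A), h] at hs'
      have h' : ∑ o ∈ univ.erase A, v o u = 1 := by omega
      obtain ⟨b, hb, hne⟩ := Finset.exists_ne_zero_of_sum_ne_zero (h'.trans_ne one_ne_zero)
      have := Finset.single_le_sum (f := fun o => v o u) (fun i _ => Nat.zero_le _) hb
      have hb1 : v b u = 1 := by omega
      rcases honly b ⟨u, hb1⟩ with rfl | rfl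
      · exact absurd rfl (Finset.ne_of_mem_erase hb)
      · exact hb1
    · have hs' := hvsum u
      rw [← Finset.add_sum_erase _ _ (mem_univ A'), h] at hs'
      have h' : ∑ o ∈ univ.erase A', v o u = 1 := by omega
      obtain ⟨b, hb, hne⟩ := Finset.exists_ne_zero_of_sum_ne_zero (h'.trans_ne one_ne_zero)
      have := Finset.single_le_sum (f := fun o => v o u) (fun i _ => Nat.zero_le _) hb
      have hb1 : v b u = 1 := by omega
      rcases honly b ⟨u, hb1⟩ with rfl | rfl
      · exact hb1
      · exact absurd rfl (Finset.ne_of_mem_erase hb)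
  let D := U A
  -- the other orbitals
  have hother : ∀ o, o ≠ A → o ≠ A' → lam o = 0 ∧ (T o).Nonempty := by
    intro o h1 h2
    refine ⟨?_, ?_⟩
    · have h := horth' o A
      rw [if_neg h1, Finset.sum_eq_zero, add_zero] at h
      · have := hUne A u0 hu0
        simpa [this] using h
      intro u _
      rcases Nat.eq_zero_or_pos (v o u) with e | e
      · simp [e]
      have : v o u = 2 := by
        rcases (show v o u = 1 ∨ v o u = 2 by have := hv2 o u; omega) with e' | e'
        · exact absurd (honly o ⟨u, e'⟩) (by simp [h1, h2])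
        · exact e'
      have := htwo o A u h1
      rw [show v A u = 0 by omega]; simp
    · obtain ⟨u, hu⟩ := hpos o
      refine ⟨u, ?_⟩
      simp only [T, mem_filter, mem_univ, true_and]
      rcases (show v o u = 1 ∨ v o u = 2 by have := hv2 o u; omega) with e' | e'
      · exact absurd (honly o ⟨u, e'⟩) (by simp [h1, h2])
      · exact e'
  -- sizes
  have hcount : D.card + ∑ o, (T o).card = Fintype.card (ZMod p)ˣ := by
    simp only [D, U, T, Finset.card_filter]
    rw [Finset.sum_comm, ← Finset.sum_add_distrib, Fintype.card_eq_sum_ones]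
    refine Finset.sum_congr rfl fun u _ => ?_
    by_cases hA : v A u = 1
    · have hz : ∀ o, (if v o u = 2 then 1 else 0) = 0 := fun o => if_neg fun ho => by
        by_cases e : o = A
        · rw [e] at ho; omega
        · have := htwo o A u e; omega
      rw [if_pos hA, Finset.sum_eq_zero fun o _ => hz o]
      rfl
    · rw [if_neg hA, zero_add]
      have h1 : ∀ o, v o u ≠ 1 := fun o ho => by
        rcases honly o ⟨u, ho⟩ with rfl | rfl
        exacts [hA ho, hA ((hboth u).2 ho)]
      obtain ⟨b, -, hne⟩ := Finset.exists_ne_zero_of_sum_ne_zero ((hvsum u).trans_ne two_ne_zero)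
      have hb : v b u = 2 := by have := hv2 b u; have := h1 b; omega
      rw [Finset.sum_eq_single b, if_pos hb]
      · intro o _ ho
        rw [if_neg]
        intro e
        have := htwo o b u ho
        omega
      · simp
  have hu0D : u0 ∈ D := by simp [D, U, hu0]
  have hDf : f ≤ D.card := (hcos u0) ▸ Finset.card_le_card (hcosU A u0 hu0D)
  let R : Finset O := (univ.erase A).erase A'
  have hR : R.card = s - 1 := by
    rw [Finset.card_erase_of_mem (Finset.mem_erase.2 ⟨hAA', mem_univ _⟩),
      Finset.card_erase_of_mem (mem_univ A), Finset.card_univ, hO]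
    omega
  have hsplit : ∑ o, (T o).card = (T A).card + (T A').card + ∑ o ∈ R, (T o).card := by
    rw [← Finset.add_sum_erase _ _ (mem_univ A),
      ← Finset.add_sum_erase (univ.erase A) (fun o => (T o).card)
        (Finset.mem_erase.2 ⟨hAA', mem_univ A'⟩)]
    simp only [R]
    omega
  have hRf : ∀ o ∈ R, f ≤ (T o).card := fun o ho => by
    simp only [R, Finset.mem_erase, mem_univ, and_true] at ho
    obtain ⟨u, hu⟩ := (hother o ho.2 ho.1).2
    exact hTf o u hu
  have hRsum := Finset.card_nsmul_le_sum R (fun o => (T o).card) f hRf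
  rw [hR, smul_eq_mul] at hRsum
  have hsf : (s - 1) * f + f = s * f := by
    rw [← Nat.succ_mul]; congr 1; omega
  have hDc : D.card = f := by omega
  have hTA : T A = ∅ := Finset.card_eq_zero.1 (by omega)
  have hTA' : T A' = ∅ := Finset.card_eq_zero.1 (by omega)
  have hTo : ∀ o ∈ R, (T o).card = f := by
    intro o ho
    refine le_antisymm ?_ (hRf o ho)
    have h := Finset.add_sum_erase R (fun o => (T o).card) ho
    have h' := Finset.card_nsmul_le_sum (R.erase o) (fun o => (T o).card) f
      fun o' ho' => hRf o' (Finset.mem_of_mem_erase ho')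
    rw [Finset.card_erase_of_mem ho, hR, smul_eq_mul] at h'
    have : (s - 1 - 1) * f + f = (s - 1) * f := by
      rw [← Nat.succ_mul]; congr 1; omega
    omega
  have hvA : ∀ B, (B = A ∨ B = A') → ∀ u, v B u = if u ∈ D then 1 else 0 := by
    intro B hB u
    have hT : v B u ≠ 2 := fun e => by
      have : u ∈ T B := by simp [T, e]
      rcases hB with rfl | rfl
      · rw [hTA] at this; simp at this
      · rw [hTA'] at this; simp at this
    have hiff : v B u = 1 ↔ u ∈ D := by
      rcases hB with rfl | rfl
      · simp [D, U]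
      · simp [D, U, hboth u]
    have := hv2 B u
    by_cases hu : u ∈ D
    · rw [if_pos hu]; exact hiff.2 hu
    · rw [if_neg hu]
      have : v B u ≠ 1 := fun e => hu (hiff.1 e)
      omega
  -- the eigenvalues
  have hUA' : U A' = D := by ext u; simp [D, U, hboth u]
  have hA1 := hself A
  have hA2 := hself A'
  rw [show (U A).card = f from hDc] at hA1
  rw [hUA', hDc] at hA2
  have hA3 := horth' A A'
  rw [if_neg (Ne.symm hAA'), show ∑ u, (v A u : ℤ) * v A' u = (f : ℤ) by
    rw [← hDc, Finset.sum_congr rfl fun u _ => show (v A u : ℤ) * v A' u = if u ∈ D then 1 else 0 by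
      rw [hvA A (Or.inl rfl), hvA A' (Or.inr rfl)]; split_ifs <;> simp]
    simp] at hA3
  have hrel : lam A' = -(lam A + 1) := by
    have h : 2 * lam A * (lam A' + lam A + 1) = 0 := by linear_combination hA3 - hA1
    rcases mul_eq_zero.1 h with h | h
    · exact absurd h (mul_ne_zero two_ne_zero (hUne A u0 hu0))
    · linarith
  have hkey : ∀ B, (B = A ∨ B = A') → ∀ e : ℤ, lam B = -e → 2 ≤ e → False := by
    intro B hB e he he2
    have hBf : (f : ℤ) = 2 * e * (e - 1) := by
      rcases hB with rfl | rfl
      · rw [hA1, he]; ring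
      · rw [hA2, he]; ring
    have hBk : (k B : ℤ) = e * (2 * e - 1) := by
      have h := hlam' B
      rw [Finset.sum_congr rfl fun u _ => show (v B u : ℤ) = if u ∈ D then 1 else 0 by
        rw [hvA B hB]; split_ifs <;> simp] at h
      simp [hDc] at h
      linear_combination h - he + hBf
    -- the split class is symmetric
    have hDcos : cos u0 = D :=
      Finset.eq_of_subset_of_card_le (hcosU A u0 hu0D) (by rw [hcos, hDc])
    have hnegH : (-1 : (ZMod p)ˣ) ∈ H := by
      have h1 : v (τ A) (-u0) = 1 := by
        show w (τ A) ((-u0 : (ZMod p)ˣ) : ZMod p) = 1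
        rw [Units.val_neg, ← hneg, neg_neg]
        exact hu0
      have h2 : -u0 ∈ cos u0 := by
        rw [hDcos]
        rcases honly (τ A) ⟨_, h1⟩ with h | h
        · rw [h] at h1; simp [D, U, h1]
        · rw [h] at h1; simp [D, U, (hboth _).2 h1]
      obtain ⟨h, hh, e'⟩ := Finset.mem_image.1 h2
      simp only [mem_filter, mem_univ, true_and] at hh
      have : h = -1 := mul_left_cancel (a := u0) (by rw [e', mul_neg, mul_one])
      exact this ▸ hh
    have heven : ∀ o m, w o (-m) = w o m := fun o m => by
      by_cases hm : m = 0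
      · rw [hm, neg_zero]
      have h := hwH o (Units.mk0 m hm) (-1) hnegH
      simpa using h
    -- two further classes
    have hindW : ∀ o c, (T o).card = f → c ∈ T o → (∀ u, v o u ≠ 1) →
        ∀ m, (w o m : ℤ) = 2 * ind H c m := by
      intro o c hT hc h1 m
      by_cases hm : m = 0
      · rw [hm, hw0, ind_zero]; simp
      have hTc : cos c = T o := Finset.eq_of_subset_of_card_le (hcosT o c hc) (by rw [hcos, hT])
      have hiff : Units.mk0 m hm ∈ T o ↔ ∃ h ∈ H, m = ((c * h : (ZMod p)ˣ) : ZMod p) := by
        simp only [← hTc, cos, Finset.mem_image, mem_filter, mem_univ, true_and, Units.ext_iff,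
          Units.val_mk0]
        exact exists_congr fun h => and_congr Iff.rfl eq_comm
      simp only [T, mem_filter, mem_univ, true_and] at hiff
      rw [ind]
      have hle2 := hv2 o (Units.mk0 m hm)
      have hne1 := h1 (Units.mk0 m hm)
      simp only [v, Units.val_mk0] at hle2 hne1 hiff ⊢
      split_ifs with h
      · rw [hiff.2 h]; norm_num
      · have : w o m = 0 := by
          have h' := mt hiff.1 h
          omega
        rw [this]; simp
    have hwB : ∀ m, (w B m : ℤ) = ind H u0 m := by
      intro m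
      by_cases hm : m = 0
      · rw [hm, hw0, ind_zero]; simp
      have h := hvA B hB (Units.mk0 m hm)
      simp only [v, Units.val_mk0] at h
      rw [h, ind, ← hDcos]
      simp only [cos, Finset.mem_image, mem_filter, mem_univ, true_and, Units.ext_iff,
        Units.val_mk0]
      rw [apply_ite (Nat.cast : ℕ → ℤ), Nat.cast_one, Nat.cast_zero]
      exact if_congr (exists_congr fun h => and_congr Iff.rfl eq_comm) rfl rfl
    obtain ⟨j, hj⟩ : ∃ j, j ∉ D := by
      by_contra hall
      push Not at hall
      have : D = univ := Finset.eq_univ_iff_forall.2 hall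
      rw [this, Finset.card_univ, ← htot] at hDc
      nlinarith
    let l := u0 * u0 * j⁻¹
    have hl : l ∉ D := by
      intro h
      rw [← hDcos] at h hj
      obtain ⟨h', hh', e'⟩ := Finset.mem_image.1 h
      simp only [mem_filter, mem_univ, true_and] at hh'
      apply hj
      refine Finset.mem_image.2 ⟨h'⁻¹, by simpa using H.inv_mem hh', ?_⟩
      have e2 : h' = u0 * j⁻¹ := mul_left_cancel (a := u0) (by rw [e']; simp [l, mul_assoc])
      rw [e2]; simp
    have hclass : ∀ c, c ∉ D → ∃ o, lam o = 0 ∧ ∀ m, (w o m : ℤ) = 2 * ind H c m := by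
      intro c hc
      obtain ⟨o, -, hne⟩ := Finset.exists_ne_zero_of_sum_ne_zero ((hvsum c).trans_ne two_ne_zero)
      have h1 : o ≠ A ∧ o ≠ A' := by
        constructor <;> intro h <;> subst h
        · exact hne (by rw [hvA o (Or.inl rfl), if_neg hc])
        · exact hne (by rw [hvA o (Or.inr rfl), if_neg hc])
      have hno1 : ∀ u, v o u ≠ 1 := fun u hu => by
        rcases honly o ⟨u, hu⟩ with h | h
        exacts [h1.1 h, h1.2 h]
      refine ⟨o, (hother o h1.1 h1.2).1, hindW o c (hTo o ?_) ?_ hno1⟩
      · simp [R, h1.1, h1.2]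
      · simp only [T, mem_filter, mem_univ, true_and]
        have := hv2 o c
        have := hno1 c
        omega
    obtain ⟨oj, hoj0, hoj⟩ := hclass j hj
    obtain ⟨ol, hol0, hol⟩ := hclass l hl
    have hfun : ∀ {o c}, (∀ m, (w o m : ℤ) = 2 * ind H c m) →
        (fun m => (w o m : ℤ)) = fun m => 2 * ind H c m := fun h => funext h
    have hz : ∀ o, ((w o 0 : ℕ) : ℤ) = 0 := fun o => by rw [hw0]; rfl
    have t1 := htriple B B ol
    rw [tri_shift _ _ _ (hz B) (hz B) (hz ol), hol0] at t1
    have h0 : ∀ x, (w B x : ℤ) * (w ol (-x) : ℤ) = 0 := by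
      intro x
      rw [heven]
      by_cases hx : x = 0
      · rw [hx, hw0]; simp
      have hne : B ≠ ol := fun e' => by
        rw [← e', he] at hol0; omega
      have h2 : w B x + w ol x ≤ 2 := htwo B ol (Units.mk0 x hx) hne
      rw [hol x, hwB x]
      have e1 := hwB x
      have e2 := hol x
      have : ind H u0 x = 0 ∨ ind H l x = 0 := by
        by_contra hc
        push Not at hc
        unfold ind at hc e1 e2
        split_ifs at hc e1 e2 <;> simp at hc e1 e2 <;> omega
      rcases this with h | h <;> simp [h]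
    simp only [h0, Finset.sum_const_zero, mul_zero, zero_mul, add_zero, sub_zero, zero_add] at t1
    rw [hfun hol, show (fun m => (w B m : ℤ)) = ind H u0 from funext hwB,
      show tri (ind H u0) (ind H u0) (fun m => 2 * ind H l m) =
        2 * tri (ind H u0) (ind H u0) (ind H l) by
        simp only [tri, Finset.mul_sum]; exact sum_congr rfl fun x _ => sum_congr rfl fun y _ => by ring,
      hBk] at t1
    have t2 := htriple B oj oj
    rw [tri_shift _ _ _ (hz B) (hz oj) (hz oj), hoj0, he] at t2
    simp only [mul_zero, zero_mul, sub_zero, zero_add] at t2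
    rw [hfun hoj, show (fun m => (w B m : ℤ)) = ind H u0 from funext hwB,
      show tri (ind H u0) (fun m => 2 * ind H j m) (fun m => 2 * ind H j m) =
        4 * tri (ind H u0) (ind H j) (ind H j) by
        simp only [tri, Finset.mul_sum]; exact sum_congr rfl fun x _ => sum_congr rfl fun y _ => by ring,
      show ∑ y, (w oj y : ℤ) * (w oj (-y) : ℤ) = 4 * f by
        rw [sum_eq_sum_units _ (by simp [hw0])]
        have : (T oj).card = f := hTo oj (by
          simp only [R, Finset.mem_erase, mem_univ, and_true]
          constructor <;> intro e' <;> subst e'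
          · have := hUne _ u0 hu0'; omega
          · have := hUne _ u0 hu0; omega)
        have h4 : ∀ u : (ZMod p)ˣ, (w oj (u : ZMod p) : ℤ) * (w oj (-(u : ZMod p)) : ℤ) =
            if u ∈ T oj then 4 else 0 := fun u => by
          rw [heven]
          split_ifs with hu
          · simp only [T, mem_filter, mem_univ, true_and] at hu
            rw [show w oj (u : ZMod p) = 2 from hu]; norm_num
          · simp only [T, mem_filter, mem_univ, true_and] at hu
            have h := hoj (u : ZMod p)
            have hv : w oj (u : ZMod p) ≠ 2 := hu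
            unfold ind at h
            split_ifs at h
            · exact absurd (show w oj (u : ZMod p) = 2 by omega) hv
            · rw [h]; simp
        rw [← this, Finset.sum_congr rfl fun u _ => h4 u, Finset.sum_ite_mem, Finset.univ_inter,
          Finset.sum_const, nsmul_eq_mul]
        ring,
      hBk, hBf] at t2
    have hN : tri (ind H u0) (ind H u0) (ind H l) = tri (ind H u0) (ind H j) (ind H j) := by
      rw [tri_rot, ← tri_scale (u0 * j⁻¹) u0 j j]
      rw [inv_mul_cancel_right, show u0 * j⁻¹ * u0 = l by simp only [l]; ac_rfl]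
    rw [hN] at t1
    refine final_arith he2 (Int.dvd_of_mul_dvd_mul_left two_ne_zero t1) ?_
    convert t2 using 1
    ring
  by_cases hneg' : lam A < 0
  · refine hkey A (Or.inl rfl) (-lam A) (by ring) ?_
    by_contra hlt
    have e : lam A = -1 := by omega
    rw [e] at hA1
    simp at hA1
    omega
  · refine hkey A' (Or.inr rfl) (-lam A') (by ring) ?_
    by_contra hlt
    have h0 := hUne A u0 hu0
    omega

end Core

end CfsgLib.TwoPrime
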