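/-
Primitive groups of degree `2 p`: the constituents of the permutation character, from their
restrictions to a fixed point free element of order `p`.
-/
import Cfsg.Agent.Perm.TwoPrime.Algebra
import Cfsg.Agent.Perm.TwoPrime.Restrict
import Cfsg.Agent.Char.PowTwist
import Mathlib.GroupTheory.GroupAction.Primitive

set_option autoImplicit false
set_option linter.style.haveILetI false

namespace CfsgLib.TwoPrime

open MulAction Module CfsgLib.Char CfsgLib.CentralizerRing
open scoped ComplexConjugate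

universe u v

variable {p : ℕ} [hp : Fact p.Prime]
variable {G : Type u} [Group G] [Fintype G] {Ω : Type v} [MulAction G Ω] [Fintype Ω]

/-- The spectral data of the centralizer algebra relative to `x`. -/
structure Spectral (G : Type u) [Group G] (Ω : Type v) [MulAction G Ω] [Fintype Ω] (p : ℕ)
    [Fact p.Prime] (x : G) (H : Subgroup (ZMod p)ˣ) where
  /-- The row sum. -/
  K : Module.End ℂ (Ω → ℂ) → ℂ
  /-- The eigenvalue on the constituent of degree `p`. -/
  L : Module.End ℂ (Ω → ℂ) → ℂ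
  /-- The eigenvalues on the other constituents. -/
  M : Module.End ℂ (Ω → ℂ) → (ZMod p)ˣ → ℂ
  K_eq : ∀ (S : Module.End ℂ (Ω → ℂ)) (c : ℂ),
    S (fun _ => 1) = c • (fun _ => (1 : ℂ)) → K S = c
  K_mul : ∀ S T, S ∈ ((Cfsg.permRep ℂ G Ω).linHom (Cfsg.permRep ℂ G Ω)).invariants →
    T ∈ ((Cfsg.permRep ℂ G Ω).linHom (Cfsg.permRep ℂ G Ω)).invariants → K (S * T) = K S * K T
  L_mul : ∀ S T, S ∈ ((Cfsg.permRep ℂ G Ω).linHom (Cfsg.permRep ℂ G Ω)).invariants →
    T ∈ ((Cfsg.permRep ℂ G Ω).linHom (Cfsg.permRep ℂ G Ω)).invariants → L (S * T) = L S * L T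
  M_mul : ∀ S T u, S ∈ ((Cfsg.permRep ℂ G Ω).linHom (Cfsg.permRep ℂ G Ω)).invariants →
    T ∈ ((Cfsg.permRep ℂ G Ω).linHom (Cfsg.permRep ℂ G Ω)).invariants →
      M (S * T) u = M S u * M T u
  M_inv : ∀ S u h, h ∈ H → M S (u * h) = M S u
  trace : ∀ S, S ∈ ((Cfsg.permRep ℂ G Ω).linHom (Cfsg.permRep ℂ G Ω)).invariants → ∀ m : ZMod p,
    LinearMap.trace ℂ (Ω → ℂ) (S * Cfsg.permRep ℂ G Ω (xpow x m)) =
      K S + (if m = 0 then (p : ℂ) * L S else 0) + ∑ u, M S u * ec ((u : ZMod p) * m)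

theorem exists_coprime_lift (a : (ZMod p)ˣ) (N : ℕ) (hN : p ∣ N) (hN0 : N ≠ 0) :
    ∃ k : ℕ, k.Coprime N ∧ (k : ZMod p) = a := by
  haveI : NeZero N := ⟨hN0⟩
  obtain ⟨b, hb⟩ := ZMod.unitsMap_surjective hN a
  refine ⟨(b : ZMod N).val, ZMod.val_coe_unit_coprime b, ?_⟩
  have := congrArg (fun u : (ZMod p)ˣ => (u : ZMod p)) hb
  rw [← this]
  simp [ZMod.unitsMap_def]

omit [Fintype G] [Fintype Ω] in
theorem fixedBy_pow [Finite G] {k : ℕ} (hk : k.Coprime (Nat.card G)) (g : G) :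
    fixedBy Ω (g ^ k) = fixedBy Ω g := by
  ext a
  simp only [mem_fixedBy]
  refine ⟨fun h => ?_, fun h => ?_⟩
  · obtain ⟨m, hm⟩ := exists_pow_eq_self_of_coprime (x := g)
      (hk.coprime_dvd_right (orderOf_dvd_natCard g))
    rw [← hm]
    exact (stabilizer G a).pow_mem (show g ^ k ∈ stabilizer G a from h) m
  · exact (stabilizer G a).pow_mem (show g ∈ stabilizer G a from h) k

/-- A non-principal linear constituent cannot occur in a primitive permutation character. -/
theorem not_linear_constituent [IsPreprimitive G Ω] {χ : G → ℂ} (hχ : Cfsg.IsIrrCharacter G χ)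
    (hne : χ ≠ fun _ => 1) (hcon : Cfsg.classInner (pi G Ω) χ ≠ 0) (h1 : χ 1 = 1) {x : G}
    (hx : χ x = 1) (hmove : ∃ a : Ω, x • a ≠ a) : False := by
  classical
  obtain ⟨lam, rfl⟩ := IsCharacter.exists_hom (IsIrrCharacter.isCharacter hχ) h1
  have hxker : x ∈ lam.ker := MonoidHom.mem_ker.2 (Units.ext hx)
  have htr : IsPretransitive lam.ker Ω := IsQuasiPreprimitive.isPretransitive_of_normal (G := G)
    (fun h => by
      obtain ⟨a, ha⟩ := hmove
      have := Set.eq_univ_iff_forall.1 h a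
      exact ha (this ⟨x, hxker⟩))
  refine hcon ?_
  have hpt : ∀ a : Ω, ∑ g : G, (if g • a = a then conj (lam g : ℂ) else 0) = 0 := by
    intro a
    obtain ⟨g₀, hg₀⟩ : ∃ g : G, lam g ≠ 1 := by
      by_contra hall
      push Not at hall
      exact hne (funext fun g => by rw [hall g]; rfl)
    obtain ⟨n, hn⟩ := exists_smul_eq lam.ker (g₀ • a) a
    have hs : ((n : G) * g₀) • a = a := by rw [mul_smul]; exact hn
    have hlam : lam ((n : G) * g₀) ≠ 1 := by
      rw [map_mul, MonoidHom.mem_ker.1 n.2, one_mul]; exact hg₀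
    let F : stabilizer G a →* ℂ := ((starRingEnd ℂ).toMonoidHom.comp (Units.coeHom ℂ)).comp
      (lam.comp (stabilizer G a).subtype)
    have hF : F ≠ 1 := by
      intro h
      have h' : conj (lam ((n : G) * g₀) : ℂ) = 1 := DFunLike.congr_fun h ⟨_, hs⟩
      apply hlam
      refine Units.ext ?_
      have := congrArg conj h'
      rwa [Complex.conj_conj, map_one] at this
    rw [← Finset.sum_filter]
    refine Eq.trans ?_ (sum_hom_units_eq_zero F hF)
    exact Finset.sum_subtype (p := fun g => g ∈ stabilizer G a) _ (fun g => by simp) _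
  have hpi : ∀ g : G, pi G Ω g = ∑ a : Ω, if g • a = a then (1 : ℂ) else 0 := fun g => by
    rw [Finset.sum_boole, pi, Nat.card_eq_fintype_card]
    congr 1
    exact Fintype.card_of_subtype _ (by simp [mem_fixedBy])
  rw [classInner_def]
  simp only [hpi, Finset.sum_mul, ite_mul, one_mul, zero_mul]
  rw [Finset.sum_comm, Finset.sum_eq_zero fun a _ => hpt a, mul_zero]

set_option maxHeartbeats 800000 in
/-- The three possibilities. -/
theorem constituents [IsPreprimitive G Ω] [Nonempty Ω] (hcard : Fintype.card Ω = 2 * p) {x : G}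
    (hx : x ^ p = 1) (hfix : ∀ a : Ω, x • a ≠ a) :
    Nat.card (orbitRel.Quotient G (Ω × Ω)) = 2 ∨
    (Nat.card (orbitRel.Quotient G (Ω × Ω)) = 3 ∧ ∃ χ₁ χ₂ : G → ℂ,
      Cfsg.IsIrrCharacter G χ₁ ∧ Cfsg.IsIrrCharacter G χ₂ ∧
      pi G Ω = (fun g => 1 + χ₁ g + χ₂ g) ∧ χ₁ 1 = (p : ℂ) - 1 ∧ χ₂ 1 = p) ∨
    ∃ (s : ℕ) (H : Subgroup (ZMod p)ˣ), 2 ≤ s ∧ H.index = s ∧
      Nat.card (orbitRel.Quotient G (Ω × Ω)) = s + 2 ∧ MultFree G Ω ∧
      Nonempty (Spectral G Ω p x H) := by
  classical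
  obtain ⟨a₀⟩ := ‹Nonempty Ω›
  have hx1 : x ≠ 1 := fun h => hfix a₀ (by rw [h, one_smul])
  have hpG : p ∣ Nat.card G := by
    rw [← orderOf_eq_prime hx hx1]; exact orderOf_dvd_natCard x
  obtain ⟨μ, hμ, hpi, hsq⟩ := exists_mult_fun (G := G) (Ω := Ω)
  choose! N hN using fun χ (hχ : Cfsg.IsIrrCharacter G χ) =>
    exists_coeff (p := p) hx (IsIrrCharacter.isCharacter hχ)
  let one : G → ℂ := fun _ => 1
  have hone : Cfsg.IsIrrCharacter G one := isIrrCharacter_one
  have hμ1 : μ one = 1 := by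
    have h := hμ one hone
    rw [classInner_pi_one_transitive] at h
    exact_mod_cast h.symm
  -- the permutation character on the powers of `x`
  have hkey : ∀ j : ZMod p, ∑ χ ∈ irrFinset G, μ χ * N χ j = 2 := by
    have h : (fun j : ZMod p => ((∑ χ ∈ irrFinset G, μ χ * N χ j : ℕ) : ℂ)) = fun _ => 2 := by
      refine coeff_unique fun m => ?_
      calc ∑ j, ((∑ χ ∈ irrFinset G, μ χ * N χ j : ℕ) : ℂ) * ec (j * m)
          = ∑ χ ∈ irrFinset G, (μ χ : ℂ) * χ (xpow x m) := by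
            push_cast
            simp only [Finset.sum_mul]
            rw [Finset.sum_comm]
            refine Finset.sum_congr rfl fun χ hχ => ?_
            rw [hN χ (mem_irrFinset.1 hχ), Finset.mul_sum]
            exact Finset.sum_congr rfl fun j _ => by ring
        _ = pi G Ω (xpow x m) := by
            conv_rhs => rw [hpi]
            simp [Finset.sum_apply]
        _ = ∑ j, (2 : ℂ) * ec (j * m) := by
            rw [← Finset.mul_sum, sum_ec_mul, pi]
            by_cases hm : m = 0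
            · rw [if_pos hm, hm, xpow_zero, fixedBy_one_eq_univ, Nat.card_univ,
                Nat.card_eq_fintype_card, hcard]
              push_cast; rfl
            · rw [if_neg hm, mul_zero, Nat.cast_eq_zero, Nat.card_eq_zero]
              left
              refine ⟨fun ⟨a, ha⟩ => hfix a ?_⟩
              have hst : xpow x m ∈ stabilizer G a := ha
              have h1 := xpow_pow hx m (m⁻¹).val
              rw [ZMod.natCast_zmod_val, inv_mul_cancel₀ hm, xpow_one] at h1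
              exact h1 ▸ (stabilizer G a).pow_mem hst _
    intro j
    exact_mod_cast congrFun h j
  have hN1 : ∀ j, N one j = if j = 0 then 1 else 0 := by
    have h : (fun j : ZMod p => ((N one j : ℕ) : ℂ)) = fun j => if j = 0 then 1 else 0 := by
      refine coeff_unique fun m => ?_
      rw [← hN one hone]
      simp [ite_mul, one]
    intro j
    have := congrFun h j
    by_cases hj : j = 0
    · simp only [hj, if_true] at this ⊢; exact_mod_cast this
    · simp only [hj, if_false] at this ⊢; exact_mod_cast this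
  have honemem : one ∈ irrFinset G := mem_irrFinset.2 hone
  -- the distinguished constituent
  have hkey0 : ∑ χ ∈ (irrFinset G).erase one, μ χ * N χ 0 = 1 := by
    have h := hkey 0
    rw [← Finset.add_sum_erase _ _ honemem, hμ1, hN1, if_pos rfl] at h
    omega
  obtain ⟨χ₀, hχ₀m, hχ₀ne⟩ := Finset.exists_ne_zero_of_sum_ne_zero (hkey0.trans_ne one_ne_zero)
  have hχ₀ : Cfsg.IsIrrCharacter G χ₀ := mem_irrFinset.1 (Finset.mem_of_mem_erase hχ₀m)
  have hχ₀one : χ₀ ≠ one := Finset.ne_of_mem_erase hχ₀m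
  have hsplit0 := hkey0
  rw [← Finset.add_sum_erase _ _ hχ₀m] at hsplit0
  have hχ₀μ : μ χ₀ = 1 ∧ N χ₀ 0 = 1 := mul_eq_one.1 (by omega)
  have hother0 : ∀ χ, Cfsg.IsIrrCharacter G χ → χ ≠ one → χ ≠ χ₀ → μ χ * N χ 0 = 0 := by
    intro χ hχ h1 h2
    have h := Finset.single_le_sum (f := fun χ => μ χ * N χ 0) (fun i _ => Nat.zero_le _)
      (Finset.mem_erase.2 ⟨h2, Finset.mem_erase.2 ⟨h1, mem_irrFinset.2 hχ⟩⟩)
    rw [hχ₀μ.1, hχ₀μ.2] at hsplit0
    omega
  -- Galois twists
  have htw : ∀ (a : (ZMod p)ˣ) (χ : G → ℂ), Cfsg.IsIrrCharacter G χ → ∃ χ' : G → ℂ,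
      Cfsg.IsIrrCharacter G χ' ∧ μ χ' = μ χ ∧ (∀ j, N χ' ((a : ZMod p) * j) = N χ j) ∧
        χ' 1 = χ 1 := by
    intro a χ hχ
    obtain ⟨k, hk, hka⟩ := exists_coprime_lift a (Nat.card G) hpG Nat.card_pos.ne'
    refine ⟨fun g => χ (g ^ k), PowTwist.isIrrCharacter_pow hk hχ, ?_, ?_, by simp⟩
    · have h := PowTwist.classInner_pow hk (pi G Ω) χ
      rw [show (fun g => pi G Ω (g ^ k)) = pi G Ω from funext fun g => by
        simp only [pi, fixedBy_pow hk], hμ _ (PowTwist.isIrrCharacter_pow hk hχ), hμ χ hχ] at h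
      exact_mod_cast h
    · have h : (fun j : ZMod p => ((N (fun g => χ (g ^ k)) ((a : ZMod p) * j) : ℕ) : ℂ)) =
          fun j => ((N χ j : ℕ) : ℂ) := by
        refine coeff_unique fun m => ?_
        rw [← hN χ hχ m]
        have h1 := hN _ (PowTwist.isIrrCharacter_pow hk hχ) (((a⁻¹ : (ZMod p)ˣ) : ZMod p) * m)
        rw [xpow_pow hx, hka, ← mul_assoc, Units.mul_inv, one_mul] at h1
        rw [h1]
        refine Fintype.sum_equiv (Equiv.mulLeft₀ (a : ZMod p) (Units.ne_zero a)) _ _ fun j => ?_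
        simp only [Equiv.mulLeft₀_apply]
        congr 2
        rw [mul_mul_mul_comm, Units.mul_inv, one_mul]
      intro j
      exact_mod_cast congrFun h j
  have hN0const : ∀ u : (ZMod p)ˣ, N χ₀ (u : ZMod p) = N χ₀ 1 := by
    intro u
    obtain ⟨χ', hχ', hμ', hN', -⟩ := htw u χ₀ hχ₀
    have h0 : N χ' 0 = 1 := by rw [← mul_zero (u : ZMod p), hN', hχ₀μ.2]
    have h1 : χ' ≠ one := by
      intro e
      have hNone : ∀ j, N χ₀ j = if j = 0 then 1 else 0 := fun j => by
        rw [← hN' j, e, hN1]; simp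
      have hχ₀1 : ∀ m : ZMod p, χ₀ (xpow x m) = 1 := fun m => by
        rw [hN χ₀ hχ₀]; simp [hNone, ite_mul]
      refine not_linear_constituent (Ω := Ω) hχ₀ hχ₀one ?_ ?_ ?_ ⟨a₀, hfix a₀⟩
      · rw [hμ χ₀ hχ₀, hχ₀μ.1]; simp
      · simpa [xpow_zero] using hχ₀1 0
      · simpa [xpow_one] using hχ₀1 1
    have h2 : χ' = χ₀ := by
      by_contra hne
      have := hother0 χ' hχ' h1 hne
      rw [hμ', hχ₀μ.1, h0] at this
      omega
    rw [← hN' 1, h2, mul_one]
  obtain ⟨c, hc⟩ : ∃ c, N χ₀ 1 = c := ⟨_, rfl⟩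
  have hkeyu : ∀ u : (ZMod p)ˣ,
      c + ∑ χ ∈ ((irrFinset G).erase one).erase χ₀, μ χ * N χ (u : ZMod p) = 2 := by
    intro u
    have h := hkey (u : ZMod p)
    rw [← Finset.add_sum_erase _ _ honemem, hN1, if_neg (Units.ne_zero u), mul_zero, zero_add,
      ← Finset.add_sum_erase _ _ hχ₀m, hχ₀μ.1, one_mul, hN0const, hc] at h
    exact h
  have hrestu : ∀ χ, Cfsg.IsIrrCharacter G χ → χ ≠ one → χ ≠ χ₀ → μ χ ≠ 0 →
      ∃ u : (ZMod p)ˣ, N χ (u : ZMod p) ≠ 0 := by
    intro χ hχ h1 h2 h3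
    by_contra hall
    push Not at hall
    have h0 : N χ 0 = 0 := (Nat.mul_eq_zero.1 (hother0 χ hχ h1 h2)).resolve_left h3
    apply IsIrrCharacter.apply_one_ne_zero hχ
    have h := hN χ hχ 0
    rw [xpow_zero, sum_units_split] at h
    simpa [hall, h0] using h
  have hχ₀1 : ∀ m : ZMod p, χ₀ (xpow x m) = (1 - c : ℂ) + (if m = 0 then (c : ℂ) * p else 0) := by
    intro m
    rw [hN χ₀ hχ₀, sum_units_split, zero_mul, AddChar.map_zero_eq_one, hχ₀μ.2]
    simp only [hN0const, hc, ← Finset.mul_sum]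
    by_cases hm : m = 0
    · simp [hm, ZMod.card_units_eq_totient, Nat.totient_prime hp.out, Nat.cast_sub hp.out.one_le]
      ring
    · rw [sum_ec_units hm, if_neg hm]
      push_cast; ring
  have hc2 : c = 0 ∨ c = 1 ∨ c = 2 := by
    have := hkeyu 1
    omega
  rcases hc2 with rfl | rfl | rfl
  · -- a linear constituent
    exfalso
    refine not_linear_constituent (Ω := Ω) hχ₀ hχ₀one ?_ ?_ ?_ ⟨a₀, hfix a₀⟩
    · rw [hμ χ₀ hχ₀, hχ₀μ.1]; simp
    · simpa [xpow_zero] using hχ₀1 0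
    · simpa [xpow_one] using hχ₀1 1
  swap
  · -- rank two
    refine Or.inl ?_
    rw [← hsq, ← Finset.add_sum_erase _ _ honemem, ← Finset.add_sum_erase _ _ hχ₀m, hμ1, hχ₀μ.1,
      Finset.sum_eq_zero (fun χ hχ => ?_)]
    · norm_num
    simp only [Finset.mem_erase, mem_irrFinset] at hχ
    by_contra hne
    obtain ⟨u, hu⟩ := hrestu χ hχ.2.2 hχ.2.1 hχ.1 fun e => hne (by rw [e]; rfl)
    have h := hkeyu u
    have h' := Finset.single_le_sum (f := fun χ => μ χ * N χ (u : ZMod p))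
      (fun i _ => Nat.zero_le _) (Finset.mem_erase.2 ⟨hχ.1, Finset.mem_erase.2
        ⟨hχ.2.1, mem_irrFinset.2 hχ.2.2⟩⟩)
    have : μ χ * N χ (u : ZMod p) ≠ 0 := mul_ne_zero (fun e => hne (by rw [e]; rfl)) hu
    omega
  -- the general case
  refine Or.inr ?_
  have hψ : ∀ u : (ZMod p)ˣ, ∃ ψ : G → ℂ, Cfsg.IsIrrCharacter G ψ ∧ ψ ≠ one ∧ ψ ≠ χ₀ ∧ μ ψ = 1 ∧
      N ψ (u : ZMod p) = 1 ∧ ∀ χ, Cfsg.IsIrrCharacter G χ → χ ≠ one → χ ≠ χ₀ → χ ≠ ψ →
        μ χ * N χ (u : ZMod p) = 0 := by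
    intro u
    have h : ∑ χ ∈ ((irrFinset G).erase one).erase χ₀, μ χ * N χ (u : ZMod p) = 1 := by
      have := hkeyu u; omega
    obtain ⟨ψ, hψm, hne⟩ := Finset.exists_ne_zero_of_sum_ne_zero (h.trans_ne one_ne_zero)
    rw [← Finset.add_sum_erase _ _ hψm] at h
    have h' : μ ψ = 1 ∧ N ψ (u : ZMod p) = 1 := mul_eq_one.1 (by omega)
    simp only [Finset.mem_erase, mem_irrFinset] at hψm
    refine ⟨ψ, hψm.2.2, hψm.2.1, hψm.1, h'.1, h'.2, fun χ hχ h1 h2 h3 => ?_⟩
    have hle := Finset.single_le_sum (f := fun χ => μ χ * N χ (u : ZMod p))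
      (fun i _ => Nat.zero_le _) (Finset.mem_erase.2 ⟨h3, Finset.mem_erase.2 ⟨h2,
        Finset.mem_erase.2 ⟨h1, mem_irrFinset.2 hχ⟩⟩⟩)
    rw [h'.1, h'.2] at h
    omega
  choose ψ hψirr hψone hψχ₀ hψμ hψN hψu using hψ
  have hψ0 : ∀ u, N (ψ u) 0 = 0 := fun u => by
    have := hother0 _ (hψirr u) (hψone u) (hψχ₀ u)
    rwa [hψμ, one_mul] at this
  have hψeq : ∀ (χ : G → ℂ) (u : (ZMod p)ˣ), Cfsg.IsIrrCharacter G χ → μ χ = 1 → N χ 0 = 0 →
      N χ (u : ZMod p) ≠ 0 → χ = ψ u := by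
    intro χ u hχ hμχ h0 hu
    by_contra hne
    have h1 : χ ≠ one := fun e => by rw [e, hN1, if_pos rfl] at h0; exact one_ne_zero h0
    have h2 : χ ≠ χ₀ := fun e => by rw [e, hχ₀μ.2] at h0; exact one_ne_zero h0
    have := hψu u χ hχ h1 h2 hne
    rw [hμχ, one_mul] at this
    exact hu this
  have hψN' : ∀ u v : (ZMod p)ˣ, N (ψ u) (v : ZMod p) = if ψ u = ψ v then 1 else 0 := by
    intro u v
    by_cases e : ψ u = ψ v
    · rw [if_pos e, e, hψN]
    · rw [if_neg e]
      by_contra hne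
      exact e (hψeq _ v (hψirr u) (hψμ u) (hψ0 u) hne)
  have hequi : ∀ a u v : (ZMod p)ˣ, ψ u = ψ v → ψ (a * u) = ψ (a * v) := by
    intro a u v e
    obtain ⟨χ', hχ', hμ', hN', -⟩ := htw a (ψ u) (hψirr u)
    have h0 : N χ' 0 = 0 := by rw [← mul_zero (a : ZMod p), hN', hψ0]
    rw [← hψeq χ' (a * u) hχ' (hμ'.trans (hψμ u)) h0 (by
        rw [Units.val_mul, hN', hψN]; exact one_ne_zero),
      ← hψeq χ' (a * v) hχ' (hμ'.trans (hψμ u)) h0 (by
        rw [Units.val_mul, hN', e, hψN]; exact one_ne_zero)]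
  let H : Subgroup (ZMod p)ˣ :=
    { carrier := {h | ψ h = ψ 1}
      one_mem' := rfl
      mul_mem' := fun {a b} (ha : ψ a = ψ 1) (hb : ψ b = ψ 1) => by
        show ψ (a * b) = ψ 1
        rw [hequi a b 1 hb, mul_one, ha]
      inv_mem' := fun {a} (ha : ψ a = ψ 1) => by
        show ψ a⁻¹ = ψ 1
        have := hequi a⁻¹ a 1 ha
        rw [inv_mul_cancel, mul_one] at this
        exact this.symm }
  have hψH : ∀ u h, h ∈ H → ψ (u * h) = ψ u := fun u h (hh : ψ h = ψ 1) => by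
    rw [hequi u h 1 hh, mul_one]
  have hψH' : ∀ u v, ψ u = ψ v → u⁻¹ * v ∈ H := fun u v e => by
    show ψ (u⁻¹ * v) = ψ 1
    rw [← hequi u⁻¹ u v e, inv_mul_cancel]
  let I : Finset (G → ℂ) := Finset.univ.image ψ
  have hI : I.card = H.index := by
    rw [Subgroup.index_eq_card, ← Fintype.card_coe, ← Nat.card_eq_fintype_card]
    refine (Nat.card_congr (Equiv.ofBijective (Quotient.lift
      (fun u => (⟨ψ u, Finset.mem_image_of_mem ψ (Finset.mem_univ u)⟩ : I)) ?_) ⟨?_, ?_⟩)).symm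
    · intro a b hab
      refine Subtype.ext ?_
      have h := hψH a (a⁻¹ * b) (QuotientGroup.leftRel_apply.1 hab)
      rw [mul_inv_cancel_left] at h
      exact h.symm
    · intro q r
      refine Quotient.inductionOn₂ q r fun a b e => ?_
      exact QuotientGroup.eq.2 (hψH' a b (congrArg Subtype.val e))
    · rintro ⟨χ, hχ⟩
      obtain ⟨u, -, rfl⟩ := Finset.mem_image.1 hχ
      exact ⟨QuotientGroup.mk u, rfl⟩
  have hcons : cons G Ω = insert one (insert χ₀ I) := by
    ext χ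
    simp only [mem_cons, Finset.mem_insert, I, Finset.mem_image, Finset.mem_univ, true_and]
    constructor
    · rintro ⟨hχ, hne⟩
      by_contra hno
      push Not at hno
      have h3 : μ χ ≠ 0 := fun e => hne (by rw [hμ χ hχ, e, Nat.cast_zero])
      obtain ⟨u, hu⟩ := hrestu χ hχ hno.1 hno.2.1 h3
      have := hψu u χ hχ hno.1 hno.2.1 (fun e => hno.2.2 u e.symm)
      exact mul_ne_zero h3 hu this
    · rintro (rfl | rfl | ⟨u, rfl⟩)
      · exact ⟨hone, by rw [hμ one hone, hμ1]; simp⟩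
      · exact ⟨hχ₀, by rw [hμ _ hχ₀, hχ₀μ.1]; simp⟩
      · exact ⟨hψirr u, by rw [hμ _ (hψirr u), hψμ]; simp⟩
  have hmf : MultFree G Ω := by
    intro χ hχ
    by_cases h : Cfsg.classInner (pi G Ω) χ = 0
    · exact Or.inl h
    refine Or.inr ?_
    have h' : χ ∈ cons G Ω := mem_cons.2 ⟨hχ, h⟩
    rw [hcons] at h'
    simp only [Finset.mem_insert, I, Finset.mem_image, Finset.mem_univ, true_and] at h'
    rcases h' with rfl | rfl | ⟨u, rfl⟩
    · rw [hμ one hone, hμ1, Nat.cast_one]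
    · rw [hμ _ hχ₀, hχ₀μ.1, Nat.cast_one]
    · rw [hμ _ (hψirr u), hψμ, Nat.cast_one]
  have hnotI : χ₀ ∉ I ∧ one ∉ I := by
    simp only [I, Finset.mem_image, Finset.mem_univ, true_and, not_exists]
    exact ⟨fun u => hψχ₀ u, fun u => hψone u⟩
  have hins : one ∉ insert χ₀ I := by
    simp only [Finset.mem_insert, not_or]
    exact ⟨Ne.symm hχ₀one, hnotI.2⟩
  have hrank : Nat.card (orbitRel.Quotient G (Ω × Ω)) = H.index + 2 := by
    have hcard' : ∑ χ ∈ irrFinset G, μ χ ^ 2 = (cons G Ω).card := by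
      rw [cons, Finset.card_filter]
      refine Finset.sum_congr rfl fun χ hχ => ?_
      rcases hmf χ (mem_irrFinset.1 hχ) with h | h
      · rw [if_neg (not_not.2 h)]
        rw [hμ χ (mem_irrFinset.1 hχ), Nat.cast_eq_zero] at h
        rw [h]; rfl
      · rw [if_pos (by rw [h]; exact one_ne_zero)]
        rw [hμ χ (mem_irrFinset.1 hχ), Nat.cast_eq_one] at h
        rw [h, one_pow]
    rw [← hsq, hcard', hcons, Finset.card_insert_of_notMem hins,
      Finset.card_insert_of_notMem hnotI.1, hI]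
  have hpisum : ∀ g, pi G Ω g = ∑ χ ∈ cons G Ω, χ g := by
    intro g
    conv_lhs => rw [hpi]
    rw [Finset.sum_apply, cons, Finset.sum_filter]
    refine Finset.sum_congr rfl fun χ hχ => ?_
    rw [Pi.smul_apply, smul_eq_mul]
    have h := hμ χ (mem_irrFinset.1 hχ)
    rcases hmf χ (mem_irrFinset.1 hχ) with h' | h'
    · rw [if_neg (not_not.2 h')]
      rw [h'] at h
      rw [← h, zero_mul]
    · rw [if_pos (by rw [h']; exact one_ne_zero)]
      rw [h'] at h
      rw [← h, one_mul]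
  rcases (show H.index = 1 ∨ 2 ≤ H.index by
    have := Subgroup.index_ne_zero_of_finite (H := H); omega) with hs | hs
  · refine Or.inl ⟨by rw [hrank, hs], ψ 1, χ₀, hψirr 1, hχ₀, ?_, ?_, ?_⟩
    · obtain ⟨b, hb⟩ := Finset.card_eq_one.1 (hI.trans hs)
      have hb1 : ψ 1 = b := by
        have : ψ 1 ∈ I := Finset.mem_image_of_mem ψ (Finset.mem_univ 1)
        rwa [hb, Finset.mem_singleton] at this
      funext g
      rw [hpisum, hcons, Finset.sum_insert hins, Finset.sum_insert hnotI.1, hb,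
        Finset.sum_singleton, hb1]
      simp only [one]; ring
    · have h := hN _ (hψirr 1) 0
      rw [xpow_zero, sum_units_split, hψ0] at h
      rw [h]
      have hall : ∀ u : (ZMod p)ˣ, N (ψ 1) (u : ZMod p) = 1 := fun u => by
        rw [hψN', if_pos]
        obtain ⟨b, hb⟩ := Finset.card_eq_one.1 (hI.trans hs)
        have h1 : ψ 1 ∈ I := Finset.mem_image_of_mem ψ (Finset.mem_univ 1)
        have h2 : ψ u ∈ I := Finset.mem_image_of_mem ψ (Finset.mem_univ u)
        rw [hb, Finset.mem_singleton] at h1 h2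
        rw [h1, h2]
      simp [hall, ZMod.card_units_eq_totient, Nat.totient_prime hp.out, Nat.cast_sub hp.out.one_le]
    · simpa [xpow_zero] using hχ₀1 0
  refine Or.inr ⟨H.index, H, hs, rfl, hrank, hmf, ⟨
    { K := fun S => coef S one
      L := fun S => coef S χ₀
      M := fun S u => coef S (ψ u)
      K_eq := fun S c hc => coef_one hmf hc
      K_mul := fun S T hS hT => coef_mul hmf hS hT (by rw [hcons]; simp)
      L_mul := fun S T hS hT => coef_mul hmf hS hT (by rw [hcons]; simp)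
      M_mul := fun S T u hS hT => coef_mul hmf hS hT (by rw [hcons]; simp [I])
      M_inv := fun S u h hh => by rw [hψH u h hh]
      trace := ?_ }⟩⟩
  intro S hS m
  rw [trace_mul_rep hmf hS, hcons, Finset.sum_insert hins, Finset.sum_insert hnotI.1, ← add_assoc]
  congr 1
  · congr 1
    · simp [one]
    · rw [hχ₀1]
      split_ifs <;> simp [mul_comm]
  · calc ∑ χ ∈ I, coef S χ * χ (xpow x m)
        = ∑ χ ∈ I, ∑ u : (ZMod p)ˣ,
            if ψ u = χ then coef S (ψ u) * ec ((u : ZMod p) * m) else 0 := by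
          refine Finset.sum_congr rfl fun χ hχ => ?_
          obtain ⟨v, -, rfl⟩ := Finset.mem_image.1 hχ
          rw [hN _ (hψirr v), sum_units_split, hψ0, Nat.cast_zero, zero_mul, zero_add,
            Finset.mul_sum]
          refine Finset.sum_congr rfl fun u _ => ?_
          rw [hψN' v u]
          by_cases e : ψ u = ψ v
          · rw [if_pos e, if_pos e.symm, e]; simp
          · rw [if_neg e, if_neg (Ne.symm e)]; simp
      _ = ∑ u : (ZMod p)ˣ, coef S (ψ u) * ec ((u : ZMod p) * m) := by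
          rw [Finset.sum_comm]
          refine Finset.sum_congr rfl fun u _ => ?_
          rw [Finset.sum_ite_eq, if_pos (Finset.mem_image_of_mem ψ (Finset.mem_univ u))]

end CfsgLib.TwoPrime
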