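/-
Primitive groups of degree `2 p`: orbital counts on an element of order `p`; rank at most three.
-/
import Cfsg.Agent.Perm.TwoPrime.Constituents
import Cfsg.Agent.Perm.TwoPrime.Arith
import Mathlib.GroupTheory.Perm.Cycle.Type

set_option autoImplicit false
set_option linter.style.haveILetI false

namespace CfsgLib.TwoPrime

open MulAction Module CfsgLib.CentralizerRing

universe u v

variable {p : ℕ} [hp : Fact p.Prime]

/-- A set invariant under a permutation of order `p` without fixed points has size divisible by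
`p`. -/
theorem dvd_card_of_invariant {Ω : Type v} [Fintype Ω] [DecidableEq Ω] (σ : Equiv.Perm Ω)
    (hσ : σ ^ p = 1) (hfix : ∀ a, σ a ≠ a) (S : Finset Ω) (hS : ∀ a, σ a ∈ S ↔ a ∈ S) :
    p ∣ S.card := by
  classical
  let τ : Equiv.Perm {a // a ∈ S} := σ.subtypePerm hS
  rcases S.eq_empty_or_nonempty with rfl | ⟨a, ha⟩
  · simp
  have hτ1 : τ ≠ 1 := fun h => hfix a (congrArg Subtype.val (Equiv.congr_fun h ⟨a, ha⟩))
  have hτp : τ ^ p = 1 := by
    have : ∀ (n : ℕ) (b : {a // a ∈ S}), ((τ ^ n) b : Ω) = (σ ^ n) b := by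
      intro n
      induction n with
      | zero => exact fun b => rfl
      | succ n ih =>
        intro b
        rw [pow_succ', pow_succ', Equiv.Perm.mul_apply, Equiv.Perm.mul_apply, ← ih b]
        rfl
    exact Equiv.ext fun b => Subtype.ext (by rw [this, hσ]; rfl)
  have ho : orderOf τ = p := orderOf_eq_prime hτp hτ1
  obtain ⟨n, hn⟩ := Equiv.Perm.cycleType_prime_order (σ := τ) (ho ▸ hp.out)
  have hsupp : τ.support = Finset.univ := Finset.eq_univ_of_forall fun b =>
    Equiv.Perm.mem_support.2 fun h => hfix b (congrArg Subtype.val h)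
  have h := τ.sum_cycleType
  rw [hn, ho, Multiset.sum_replicate, hsupp, Finset.card_univ, Fintype.card_coe] at h
  exact ⟨n + 1, by rw [← h, smul_eq_mul, mul_comm]⟩

section Sums

theorem sum_transform (A : ZMod p → ℂ) :
    ∑ m, (p : ℂ)⁻¹ * ∑ j, A j * ec (j * m) = A 0 := by
  classical
  have hp0 : (p : ℂ) ≠ 0 := Nat.cast_ne_zero.2 hp.out.ne_zero
  rw [← Finset.mul_sum, Finset.sum_comm]
  simp only [← Finset.mul_sum]
  rw [Finset.sum_eq_single 0]
  · rw [show (∑ m, ec ((0 : ZMod p) * m)) = (p : ℂ) by simp]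
    field_simp
  · intro j _ hj
    rw [Finset.sum_congr rfl fun m _ => show ec (j * m) = ec (m * j) by rw [mul_comm], sum_ec_mul,
      if_neg hj, mul_zero]
  · simp

theorem sum_transform_two (A B : ZMod p → ℂ) :
    ∑ x, ((p : ℂ)⁻¹ * ∑ i, A i * ec (i * x)) * ((p : ℂ)⁻¹ * ∑ j, B j * ec (j * -x)) =
      (p : ℂ)⁻¹ * ∑ j, A j * B j := by
  classical
  have hp0 : (p : ℂ) ≠ 0 := Nat.cast_ne_zero.2 hp.out.ne_zero
  have h1 : ∀ x, (∑ i, A i * ec (i * x)) * (∑ j, B j * ec (j * -x)) =
      ∑ i, ∑ j, A i * B j * ec (x * (i - j)) := by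
    intro x
    rw [Finset.sum_mul_sum]
    refine Finset.sum_congr rfl fun i _ => Finset.sum_congr rfl fun j _ => ?_
    rw [mul_mul_mul_comm, ← AddChar.map_add_eq_mul]
    congr 2; ring
  have h2 : ∑ x, (∑ i, A i * ec (i * x)) * (∑ j, B j * ec (j * -x)) =
      (p : ℂ) * ∑ j, A j * B j := by
    simp only [h1]
    rw [Finset.sum_comm, Finset.mul_sum]
    refine Finset.sum_congr rfl fun i _ => ?_
    rw [Finset.sum_comm]
    simp only [← Finset.mul_sum, sum_ec_mul, sub_eq_zero, mul_ite, mul_zero, Finset.sum_ite_eq,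
      Finset.mem_univ, if_true]
    ring
  calc ∑ x, ((p : ℂ)⁻¹ * ∑ i, A i * ec (i * x)) * ((p : ℂ)⁻¹ * ∑ j, B j * ec (j * -x))
      = (p : ℂ)⁻¹ * (p : ℂ)⁻¹ * ∑ x, (∑ i, A i * ec (i * x)) * (∑ j, B j * ec (j * -x)) := by
        rw [Finset.mul_sum]; exact Finset.sum_congr rfl fun x _ => by ring
    _ = _ := by rw [h2]; field_simp

theorem sum_transform_three (A B C : ZMod p → ℂ) :
    ∑ x, ∑ y, ((p : ℂ)⁻¹ * ∑ i, A i * ec (i * x)) * ((p : ℂ)⁻¹ * ∑ j, B j * ec (j * y)) *
        ((p : ℂ)⁻¹ * ∑ l, C l * ec (l * (-x - y))) =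
      (p : ℂ)⁻¹ * ∑ j, A j * B j * C j := by
  classical
  -- sum over `y` first
  have hp0 : (p : ℂ) ≠ 0 := Nat.cast_ne_zero.2 hp.out.ne_zero
  have h1 : ∀ x, ∑ y, ((p : ℂ)⁻¹ * ∑ j, B j * ec (j * y)) *
        ((p : ℂ)⁻¹ * ∑ l, C l * ec (l * (-x - y))) =
      (p : ℂ)⁻¹ * ∑ l, (B l * C l) * ec (l * -x) := by
    intro x
    have h := sum_transform_two B (fun l => C l * ec (l * -x))
    rw [Finset.sum_congr rfl fun j _ => show B j * C j * ec (j * -x) = B j * (C j * ec (j * -x)) by
      ring, ← h]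
    refine Finset.sum_congr rfl fun y _ => ?_
    congr 2
    refine Finset.sum_congr rfl fun l _ => ?_
    rw [mul_assoc, ← AddChar.map_add_eq_mul]
    congr 2; ring
  simp only [mul_assoc ((p : ℂ)⁻¹ * ∑ i, A i * ec (i * _)), ← Finset.mul_sum, h1]
  rw [show ∑ j, A j * B j * C j = ∑ j, A j * (B j * C j) from
    Finset.sum_congr rfl fun j _ => mul_assoc _ _ _]
  exact sum_transform_two A fun l => B l * C l

end Sums

variable (G : Type u) [Group G] {Ω : Type v} [MulAction G Ω]

/-- The orbital of a pair. -/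
def orb (z y : Ω) : orbitRel.Quotient G (Ω × Ω) := Quotient.mk'' (z, y)

variable {G}

theorem orb_smul (g : G) (z y : Ω) : orb G (g • z) (g • y) = orb G z y :=
  Quotient.sound' ⟨g, rfl⟩

theorem exists_smul_of_orb_eq {z y z' y' : Ω} (h : orb G z y = orb G z' y') :
    ∃ g : G, g • z' = z ∧ g • y' = y := by
  obtain ⟨g, hg⟩ := Quotient.exact' h
  exact ⟨g, congrArg Prod.fst hg, congrArg Prod.snd hg⟩

theorem orb_eq_diag_iff [IsPretransitive G Ω] (a z y : Ω) : orb G z y = orb G a a ↔ z = y := by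
  refine ⟨fun h => ?_, fun h => ?_⟩
  · obtain ⟨g, h1, h2⟩ := exists_smul_of_orb_eq h
    exact h1.symm.trans h2
  · subst h
    obtain ⟨g, rfl⟩ := exists_smul_eq G a z
    exact orb_smul g a a

/-- The transposed orbital. -/
def swapOrb : orbitRel.Quotient G (Ω × Ω) → orbitRel.Quotient G (Ω × Ω) :=
  Quotient.map' Prod.swap fun a b h => by
    obtain ⟨g, rfl⟩ := h
    exact ⟨g, rfl⟩

theorem swapOrb_orb (z y : Ω) : swapOrb (orb G z y) = orb G y z := rfl

theorem swapOrb_swapOrb (o : orbitRel.Quotient G (Ω × Ω)) : swapOrb (swapOrb o) = o :=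
  Quotient.inductionOn' o fun _ => rfl

variable [Fintype Ω]

/-- The matrix of an orbital. -/
noncomputable def orbMat (o : orbitRel.Quotient G (Ω × Ω)) : Matrix Ω Ω ℂ := by
  classical exact Matrix.of fun z y => if orb G z y = o then 1 else 0

/-- The operator of an orbital. -/
noncomputable def orbR (o : orbitRel.Quotient G (Ω × Ω)) : Module.End ℂ (Ω → ℂ) := by
  classical exact Matrix.toLin' (orbMat o)

theorem orbMat_apply [DecidableEq (orbitRel.Quotient G (Ω × Ω))]
    (o : orbitRel.Quotient G (Ω × Ω)) (z y : Ω) :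
    orbMat o z y = if orb G z y = o then 1 else 0 := by
  rw [orbMat, Matrix.of_apply]
  split_ifs <;> rfl

theorem orbR_apply [DecidableEq (orbitRel.Quotient G (Ω × Ω))]
    (o : orbitRel.Quotient G (Ω × Ω)) (v : Ω → ℂ) (z : Ω) :
    orbR o v z = ∑ y, if orb G z y = o then v y else 0 := by
  classical
  rw [orbR, Matrix.toLin'_apply]
  simp only [Matrix.mulVec, dotProduct, orbMat_apply, ite_mul, one_mul, zero_mul]

theorem orbR_mem (o : orbitRel.Quotient G (Ω × Ω)) :
    orbR o ∈ ((Cfsg.permRep ℂ G Ω).linHom (Cfsg.permRep ℂ G Ω)).invariants := by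
  classical
  rw [mem_invariants_iff]
  intro g v
  funext z
  rw [orbR_apply, permRep_apply, orbR_apply]
  refine (Fintype.sum_equiv (MulAction.toPerm g) _ _ fun y => ?_).symm
  simp only [MulAction.toPerm_apply, permRep_apply, inv_smul_smul]
  rw [show orb G z (g • y) = orb G (g⁻¹ • z) y by
    conv_lhs => rw [← smul_inv_smul g z, orb_smul]]

theorem trace_orbR_rep [DecidableEq (orbitRel.Quotient G (Ω × Ω))]
    (o : orbitRel.Quotient G (Ω × Ω)) (g : G) :
    LinearMap.trace ℂ (Ω → ℂ) (orbR o * Cfsg.permRep ℂ G Ω g) =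
      ((Finset.univ.filter fun z : Ω => orb G z (g • z) = o).card : ℂ) := by
  classical
  rw [LinearMap.trace_eq_matrix_trace ℂ (Pi.basisFun ℂ Ω), ← Finset.sum_boole]
  refine Finset.sum_congr rfl fun z _ => ?_
  rw [Matrix.diag_apply, LinearMap.toMatrix_apply, Pi.basisFun_repr, Pi.basisFun_apply,
    Module.End.mul_apply, permRep_single, orbR_apply,
    Finset.sum_eq_single (g • z) (fun y _ hy => by simp [hy]) (by simp)]
  simp

variable [IsPretransitive G Ω]

/-- The subdegree of an orbital. -/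
noncomputable def valency (a : Ω) (o : orbitRel.Quotient G (Ω × Ω)) : ℕ := by
  classical exact (Finset.univ.filter fun y : Ω => orb G a y = o).card

theorem valency_eq [DecidableEq (orbitRel.Quotient G (Ω × Ω))] (a z : Ω)
    (o : orbitRel.Quotient G (Ω × Ω)) :
    (Finset.univ.filter fun y : Ω => orb G z y = o).card = valency a o := by
  classical
  obtain ⟨g, rfl⟩ := exists_smul_eq G a z
  rw [valency]
  refine Finset.card_bij (fun y _ => g⁻¹ • y) (fun y hy => ?_)
    (fun _ _ _ _ e => smul_left_cancel _ e) (fun y hy => ⟨g • y, ?_, inv_smul_smul g y⟩)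
  · simp only [Finset.mem_filter, Finset.mem_univ, true_and] at hy ⊢
    rw [← hy]
    conv_rhs => rw [← smul_inv_smul g y, orb_smul]
  · simp only [Finset.mem_filter, Finset.mem_univ, true_and] at hy ⊢
    rw [orb_smul, hy]

theorem orbR_one [DecidableEq (orbitRel.Quotient G (Ω × Ω))] (a : Ω)
    (o : orbitRel.Quotient G (Ω × Ω)) :
    orbR o (fun _ => 1) = (valency a o : ℂ) • fun _ => (1 : ℂ) := by
  funext z
  rw [orbR_apply, Finset.sum_boole, valency_eq a]
  simp

theorem card_pairs [DecidableEq (orbitRel.Quotient G (Ω × Ω))] (a : Ω)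
    (o : orbitRel.Quotient G (Ω × Ω)) :
    ∑ z : Ω, ∑ y : Ω, (if orb G z y = o then 1 else 0) = Fintype.card Ω * valency a o := by
  simp only [← Finset.card_filter, valency_eq a, Finset.sum_const, Finset.card_univ, smul_eq_mul]

theorem valency_swap (a : Ω) (o : orbitRel.Quotient G (Ω × Ω)) :
    valency a (swapOrb o) = valency a o := by
  classical
  refine Nat.eq_of_mul_eq_mul_left (Fintype.card_pos_iff.2 ⟨a⟩) ?_
  rw [← card_pairs, ← card_pairs, Finset.sum_comm]
  refine Finset.sum_congr rfl fun z _ => Finset.sum_congr rfl fun y _ => ?_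
  refine if_congr ⟨fun h => ?_, fun h => ?_⟩ rfl rfl
  · rw [← swapOrb_swapOrb o, ← h, swapOrb_orb]
  · rw [← h, swapOrb_orb]

theorem trace_orbR_two [DecidableEq (orbitRel.Quotient G (Ω × Ω))] (a : Ω)
    (o o' : orbitRel.Quotient G (Ω × Ω)) :
    LinearMap.trace ℂ (Ω → ℂ) (orbR o * orbR o') =
      if o' = swapOrb o then ((Fintype.card Ω * valency a o : ℕ) : ℂ) else 0 := by
  classical
  rw [orbR, orbR, Module.End.mul_eq_comp, ← Matrix.toLin'_mul, Matrix.trace_toLin'_eq]
  simp only [Matrix.trace, Matrix.diag_apply, Matrix.mul_apply, orbMat_apply, ite_mul, one_mul,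
    zero_mul]
  by_cases h : o' = swapOrb o
  · rw [if_pos h, ← card_pairs a o]
    push_cast
    refine Finset.sum_congr rfl fun z _ => Finset.sum_congr rfl fun y _ => ?_
    by_cases e : orb G z y = o
    · rw [if_pos e, if_pos e, if_pos (by rw [h, ← e, swapOrb_orb])]
    · rw [if_neg e, if_neg e]
  · rw [if_neg h]
    refine Finset.sum_eq_zero fun z _ => Finset.sum_eq_zero fun y _ => ?_
    by_cases e : orb G z y = o
    · rw [if_pos e, if_neg]
      intro e'
      exact h (by rw [← e', ← e, swapOrb_orb])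
    · rw [if_neg e]

theorem trace_orbR_three [DecidableEq (orbitRel.Quotient G (Ω × Ω))] (a : Ω)
    (o o' o'' : orbitRel.Quotient G (Ω × Ω)) :
    ∃ n : ℕ, LinearMap.trace ℂ (Ω → ℂ) (orbR o * (orbR o' * orbR o'')) =
      ((Fintype.card Ω * valency a o * n : ℕ) : ℂ) := by
  classical
  induction o using Quotient.inductionOn' with
  | h q =>
    obtain ⟨z0, y0⟩ := q
    let N : Ω → Ω → ℕ := fun y z =>
      (Finset.univ.filter fun w : Ω => orb G y w = o' ∧ orb G w z = o'').card
    refine ⟨N y0 z0, ?_⟩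
    rw [orbR, orbR, orbR, Module.End.mul_eq_comp, Module.End.mul_eq_comp, ← Matrix.toLin'_mul,
      ← Matrix.toLin'_mul, Matrix.trace_toLin'_eq]
    simp only [Matrix.trace, Matrix.diag_apply, Matrix.mul_apply, orbMat_apply, ite_mul, one_mul,
      zero_mul]
    rw [← card_pairs a]
    push_cast
    simp only [Finset.sum_mul]
    refine Finset.sum_congr rfl fun z _ => Finset.sum_congr rfl fun y _ => ?_
    by_cases e : orb G z y = orb G z0 y0
    · obtain ⟨g, rfl, rfl⟩ := exists_smul_of_orb_eq e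
      have e' : orb G (g • z0) (g • y0) = Quotient.mk'' (z0, y0) := e
      rw [if_pos e', if_pos e', one_mul]
      simp only [← ite_and, Finset.sum_boole, N, Nat.cast_inj]
      refine Finset.card_bij (fun w _ => g⁻¹ • w) (fun w hw => ?_)
        (fun _ _ _ _ e => smul_left_cancel _ e) (fun w hw => ⟨g • w, ?_, inv_smul_smul g w⟩)
      · simp only [Finset.mem_filter, Finset.mem_univ, true_and] at hw ⊢
        constructor
        · rw [← hw.1]; conv_rhs => rw [← smul_inv_smul g w, orb_smul]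
        · rw [← hw.2]; conv_rhs => rw [← smul_inv_smul g w, orb_smul]
      · simp only [Finset.mem_filter, Finset.mem_univ, true_and] at hw ⊢
        rwa [orb_smul, orb_smul]
    · have e' : ¬ orb G z y = Quotient.mk'' (z0, y0) := e
      rw [if_neg e', if_neg e', zero_mul]

end CfsgLib.TwoPrime
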