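/-
Wielandt's theorem on primitive groups of degree `2 p`.
-/
import Cfsg.Agent.Perm.TwoPrime.Orbital
import Cfsg.Agent.S0713
import Cfsg.Agent.S0719
import Mathlib.GroupTheory.GroupAction.Jordan
import Mathlib.GroupTheory.GroupAction.MultipleTransitivity

set_option autoImplicit false
set_option linter.style.haveILetI false

namespace CfsgLib.TwoPrime

open MulAction Module CfsgLib.CentralizerRing

universe u v

variable {p : ℕ} [hp : Fact p.Prime]

section Rank

variable {G : Type u} [Group G] [Fintype G] {Ω : Type v} [MulAction G Ω] [Fintype Ω]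

omit [Fintype G] in
/-- A suborbit of length one would make the action regular. -/
theorem two_le_valency [IsPreprimitive G Ω] (a : Ω) {o : orbitRel.Quotient G (Ω × Ω)}
    (ho : o ≠ orb G a a)
    (hrank : Nat.card (orbitRel.Quotient G (Ω × Ω)) < Fintype.card Ω) : 2 ≤ valency a o := by
  classical
  obtain ⟨b, hb⟩ : ∃ b, orb G a b = o := by
    induction o using Quotient.inductionOn' with
    | h q =>
      obtain ⟨g, hg⟩ := exists_smul_eq G q.1 a
      refine ⟨g • q.2, ?_⟩
      rw [← hg, orb_smul]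
      rfl
  have hba : b ≠ a := fun e => ho (by rw [← hb, e])
  by_contra hlt
  have hfix : ∀ g ∈ stabilizer G a, g • b = b := by
    intro g hg
    have hmem : ∀ y, orb G a y = o → y ∈ Finset.univ.filter fun y : Ω => orb G a y = o :=
      fun y hy => by simp [hy]
    have hle : (Finset.univ.filter fun y : Ω => orb G a y = o).card ≤ 1 := by
      rw [valency] at hlt
      omega
    refine Finset.card_le_one.1 hle _ (hmem _ ?_) _ (hmem _ hb)
    rw [← hb]
    conv_lhs => rw [← mem_stabilizer_iff.1 hg, orb_smul]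
  haveI : Nontrivial Ω := ⟨⟨b, a, hba⟩⟩
  have hco : ∀ z : Ω, IsCoatom (stabilizer G z) := fun z =>
    IsPreprimitive.isCoatom_stabilizer_of_isPreprimitive G z
  have heq : stabilizer G b = stabilizer G a :=
    ((hco a).le_iff.1 (fun g hg => hfix g hg)).resolve_left (hco b).1
  obtain ⟨g, hg⟩ := exists_smul_eq G a b
  have hnorm : g ∈ Subgroup.normalizer ((stabilizer G a : Subgroup G) : Set G) := by
    rw [Subgroup.mem_normalizer_iff]
    intro h
    rw [show g * h * g⁻¹ ∈ stabilizer G a ↔ g * h * g⁻¹ ∈ stabilizer G b by rw [heq]]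
    simp only [mem_stabilizer_iff, mul_smul, inv_smul_eq_iff.2 hg.symm]
    constructor
    · intro e; rw [e, hg]
    · intro e; exact smul_left_cancel g (e.trans hg.symm)
  have htop : Subgroup.normalizer ((stabilizer G a : Subgroup G) : Set G) = ⊤ := by
    refine ((hco a).le_iff.1 Subgroup.le_normalizer).resolve_right fun e => ?_
    have hgK : g ∈ stabilizer G a := e.le hnorm
    exact hba (hg.symm.trans hgK)
  haveI : (stabilizer G a).Normal := Subgroup.normalizer_eq_top_iff.1 htop
  have hall : ∀ (z : Ω) (h : G), h ∈ stabilizer G a → h • z = z := by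
    intro z h hh
    obtain ⟨k, rfl⟩ := exists_smul_eq G a z
    have := Subgroup.Normal.conj_mem ‹(stabilizer G a).Normal› h hh k⁻¹
    rw [mem_stabilizer_iff, inv_inv, mul_smul, mul_smul, inv_smul_eq_iff] at this
    exact this
  have hinj : Function.Injective
      (Quotient.mk'' : Ω → orbitRel.Quotient (stabilizer G a) Ω) := by
    intro z y e
    obtain ⟨h, rfl⟩ := Quotient.exact' e
    exact hall y h h.2
  have := Nat.card_le_card_of_injective _ hinj
  rw [card_orbits_pairs a, Nat.card_eq_fintype_card (α := Ω)] at this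
  omega

set_option maxHeartbeats 800000 in
omit [Fintype G] in
/-- Rank at least four is impossible. -/
theorem not_rank_ge_four [IsPreprimitive G Ω] [Nonempty Ω] (hcard : Fintype.card Ω = 2 * p) {x : G}
    (hx : x ^ p = 1) (hfix : ∀ a : Ω, x • a ≠ a) {s : ℕ} {H : Subgroup (ZMod p)ˣ} (hs : 2 ≤ s)
    (hH : H.index = s) (hrank : Nat.card (orbitRel.Quotient G (Ω × Ω)) = s + 2)
    (D : Spectral G Ω p x H) : False := by
  classical
  obtain ⟨a⟩ := ‹Nonempty Ω›
  have hp0 : (p : ℂ) ≠ 0 := Nat.cast_ne_zero.2 hp.out.ne_zero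
  let O := {o : orbitRel.Quotient G (Ω × Ω) // o ≠ orb G a a}
  haveI : Fintype (orbitRel.Quotient G (Ω × Ω)) := Fintype.ofFinite _
  have hO : Fintype.card O = s + 1 := by
    rw [Fintype.card_subtype_compl, Fintype.card_subtype_eq, ← Nat.card_eq_fintype_card, hrank]
    omega
  have hsle : s ≤ p - 1 := by
    rw [← hH, ← ZMod.card_units p, ← Nat.card_eq_fintype_card]
    exact Nat.le_of_dvd Nat.card_pos H.index_dvd_card
  have hk : ∀ o : O, 2 ≤ valency a o.1 := fun o => two_le_valency a o.2 (by
    rw [hrank, hcard]; have := hp.out.two_le; omega)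
  have hmove : ∀ m : ZMod p, m ≠ 0 → ∀ z : Ω, xpow x m • z ≠ z := by
    intro m hm z hz
    refine hfix z ?_
    have hst : xpow x m ∈ stabilizer G z := hz
    have h1 := xpow_pow hx m (m⁻¹).val
    rw [ZMod.natCast_zmod_val, inv_mul_cancel₀ hm, xpow_one] at h1
    exact h1 ▸ (stabilizer G z).pow_mem hst _
  let cnt : orbitRel.Quotient G (Ω × Ω) → G → ℕ := fun o g =>
    (Finset.univ.filter fun z : Ω => orb G z (g • z) = o).card
  have hdvd : ∀ o (m : ZMod p), p ∣ cnt o (xpow x m) := by
    intro o m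
    refine dvd_card_of_invariant (MulAction.toPermHom G Ω x) ?_ hfix _ fun z => ?_
    · rw [← map_pow, hx, map_one]
    · simp only [Finset.mem_filter, Finset.mem_univ, true_and, MulAction.toPermHom_apply,
        MulAction.toPerm_apply]
      rw [show xpow x m • x • z = x • xpow x m • z by
        rw [← mul_smul, ← mul_smul, xpow, ← pow_succ, ← pow_succ'], orb_smul]
  let w : O → ZMod p → ℕ := fun o m => cnt o.1 (xpow x m) / p
  have hw : ∀ o m, p * w o m = cnt o.1 (xpow x m) := fun o m => Nat.mul_div_cancel' (hdvd o.1 m)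
  have hw0 : ∀ o, w o 0 = 0 := fun o => by
    have : cnt o.1 (xpow x (0 : ZMod p)) = 0 := by
      simp only [cnt, Finset.card_eq_zero, Finset.filter_eq_empty_iff, xpow_zero, one_smul]
      intro z _ h
      exact o.2 (h.symm.trans ((orb_eq_diag_iff a z z).2 rfl))
    simp only [w, this, Nat.zero_div]
  have hsum : ∀ m : ZMod p, m ≠ 0 → ∑ o, w o m = 2 := by
    intro m hm
    refine Nat.eq_of_mul_eq_mul_left hp.out.pos ?_
    rw [Finset.mul_sum, Finset.sum_congr rfl fun o _ => hw o m, mul_comm, ← hcard,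
      ← Finset.card_univ (α := Ω)]
    refine Eq.trans (Finset.sum_congr rfl fun o _ => ?_) (Finset.card_eq_sum_card_fiberwise
      (f := fun z : Ω => (⟨orb G z (xpow x m • z), fun h =>
        hmove m hm z ((orb_eq_diag_iff a z _).1 h).symm⟩ : O)) (t := Finset.univ)
      fun z _ => Finset.mem_univ _).symm
    simp only [cnt, Subtype.ext_iff]
  let τ : O → O := fun o => ⟨swapOrb o.1, fun h => o.2 (by
    rw [← swapOrb_swapOrb o.1, h, swapOrb_orb])⟩
  have hxneg : ∀ m : ZMod p, xpow x (-m) = (xpow x m)⁻¹ := fun m => by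
    refine eq_inv_of_mul_eq_one_left ?_
    rw [← xpow_add hx, neg_add_cancel, xpow_zero]
  have hneg : ∀ o m, w o (-m) = w (τ o) m := by
    intro o m
    simp only [w, τ, cnt, hxneg]
    congr 1
    refine Finset.card_bij (fun z _ => (xpow x m)⁻¹ • z) (fun z hz => ?_)
      (fun _ _ _ _ e => smul_left_cancel _ e)
      (fun z hz => ⟨xpow x m • z, ?_, inv_smul_smul _ z⟩)
    · simp only [Finset.mem_filter, Finset.mem_univ, true_and] at hz ⊢
      rw [smul_inv_smul, ← hz, swapOrb_orb]
    · simp only [Finset.mem_filter, Finset.mem_univ, true_and] at hz ⊢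
      rw [inv_smul_smul, ← swapOrb_orb z, hz, swapOrb_swapOrb]
  -- the transforms
  let R : O → Module.End ℂ (Ω → ℂ) := fun o => orbR o.1
  have hR : ∀ o, R o ∈ ((Cfsg.permRep ℂ G Ω).linHom (Cfsg.permRep ℂ G Ω)).invariants :=
    fun o => orbR_mem o.1
  let A : Module.End ℂ (Ω → ℂ) → ZMod p → ℂ := fun S j =>
    if h : j = 0 then D.K S else D.M S (Units.mk0 j h)
  have hA0 : ∀ S, A S 0 = D.K S := fun S => dif_pos rfl
  have hAu : ∀ S (u : (ZMod p)ˣ), A S (u : ZMod p) = D.M S u := fun S u => by
    rw [show A S (u : ZMod p) = D.M S (Units.mk0 _ (Units.ne_zero u)) from dif_neg _,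
      Units.mk0_val]
  have htr : ∀ S, S ∈ ((Cfsg.permRep ℂ G Ω).linHom (Cfsg.permRep ℂ G Ω)).invariants → ∀ m,
      LinearMap.trace ℂ (Ω → ℂ) (S * Cfsg.permRep ℂ G Ω (xpow x m)) =
        (if m = 0 then (p : ℂ) * D.L S else 0) + ∑ j, A S j * ec (j * m) := by
    intro S hS m
    rw [D.trace S hS m, sum_units_split (fun j => A S j * ec (j * m))]
    simp only [hA0, hAu, zero_mul, AddChar.map_zero_eq_one, mul_one]
    ring
  have hΘ : ∀ o m, (w o m : ℂ) - (if m = 0 then D.L (R o) else 0) =
      (p : ℂ)⁻¹ * ∑ j, A (R o) j * ec (j * m) := by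
    intro o m
    have h := htr (R o) (hR o) m
    rw [trace_orbR_rep] at h
    have hc : ((Finset.univ.filter fun z : Ω => orb G z (xpow x m • z) = o.1).card : ℂ) =
        (p : ℂ) * (w o m : ℂ) := by
      rw [← Nat.cast_mul, hw o m]
    rw [hc] at h
    rw [eq_inv_mul_iff_mul_eq₀ hp0]
    split_ifs with hm
    · rw [if_pos hm] at h; linear_combination h
    · rw [if_neg hm] at h; linear_combination h
  have hK : ∀ o : O, D.K (R o) = (valency a o.1 : ℂ) := fun o =>
    D.K_eq _ _ (orbR_one a o.1)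
  let lam : O → ℤ := fun o => (∑ m, (w o m : ℤ)) - (valency a o.1 : ℤ)
  have hlam : ∀ o, (lam o : ℂ) = D.L (R o) := by
    intro o
    have h : ∑ m, ((w o m : ℂ) - (if m = 0 then D.L (R o) else 0)) = A (R o) 0 := by
      rw [Finset.sum_congr rfl fun m _ => hΘ o m, sum_transform]
    rw [Finset.sum_sub_distrib, Finset.sum_ite_eq', if_pos (Finset.mem_univ _), hA0, hK] at h
    simp only [lam]
    push_cast
    linear_combination h
  have hΘ' : ∀ o m, ((shift (fun n => (w o n : ℤ)) (lam o) m : ℤ) : ℂ) =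
      (p : ℂ)⁻¹ * ∑ j, A (R o) j * ec (j * m) := by
    intro o m
    rw [← hΘ, shift, ← hlam]
    push_cast
    rfl
  have hone : ∀ S, S ∈ ((Cfsg.permRep ℂ G Ω).linHom (Cfsg.permRep ℂ G Ω)).invariants →
      LinearMap.trace ℂ (Ω → ℂ) S = (p : ℂ) * D.L S + ∑ j, A S j := by
    intro S hS
    have h := htr S hS 0
    rw [xpow_zero, map_one, mul_one, if_pos rfl] at h
    simp only [mul_zero, AddChar.map_zero_eq_one, mul_one] at h
    exact h
  have hA2 : ∀ S T, S ∈ ((Cfsg.permRep ℂ G Ω).linHom (Cfsg.permRep ℂ G Ω)).invariants →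
      T ∈ ((Cfsg.permRep ℂ G Ω).linHom (Cfsg.permRep ℂ G Ω)).invariants →
      ∀ j, A (S * T) j = A S j * A T j := by
    intro S T hS hT j
    by_cases h : j = 0
    · simp only [A, dif_pos h]; exact D.K_mul S T hS hT
    · simp only [A, dif_neg h]; exact D.M_mul S T _ hS hT
  have hwH : ∀ o (u h : (ZMod p)ˣ), h ∈ H →
      w o ((u * h : (ZMod p)ˣ) : ZMod p) = w o (u : ZMod p) := by
    intro o u h hh
    have h1 := hΘ o ((u * h : (ZMod p)ˣ) : ZMod p)
    have h2 := hΘ o (u : ZMod p)
    rw [if_neg (Units.ne_zero _), sub_zero] at h1 h2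
    have h3 : ∑ j, A (R o) j * ec (j * ((u * h : (ZMod p)ˣ) : ZMod p)) =
        ∑ j, A (R o) j * ec (j * (u : ZMod p)) := by
      rw [sum_units_split, sum_units_split (fun j => A (R o) j * ec (j * (u : ZMod p)))]
      simp only [zero_mul, hAu]
      congr 1
      refine Fintype.sum_equiv (Equiv.mulRight h) _ _ fun v => ?_
      simp only [Equiv.coe_mulRight, D.M_inv _ v h hh, Units.val_mul]
      congr 2
      ring
    rw [h3, ← h2] at h1
    exact_mod_cast h1
  have hsw : ∀ o : O, valency a (τ o).1 = valency a o.1 := fun o => valency_swap a o.1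
  have hlamτ : ∀ o, lam (τ o) = lam o := fun o => by
    simp only [lam, hsw, ← hneg]
    congr 1
    exact Fintype.sum_equiv (Equiv.neg _) _ _ fun m => rfl
  refine no_config (O := O) hs hH hO w lam (fun o => valency a o.1) τ hw0 hwH hsum hneg hk
    (fun o => rfl) ?_ ?_
  · intro o o'
    have h := hone (R o * R (τ o')) (mul_mem_invariants (hR o) (hR _))
    rw [D.L_mul _ _ (hR o) (hR _), trace_orbR_two a, Finset.sum_congr rfl fun j _ =>
      hA2 _ _ (hR o) (hR _) j] at h
    have h2 := sum_transform_two (A (R o)) (A (R (τ o')))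
    simp only [← hΘ'] at h2
    have hexp : ∑ m, (shift (fun n => (w o n : ℤ)) (lam o) m) *
        shift (fun n => (w (τ o') n : ℤ)) (lam (τ o')) (-m) =
        lam o * lam o' + ∑ m, (w o m : ℤ) * w o' m := by
      have hterm : ∀ m, (shift (fun n => (w o n : ℤ)) (lam o) m) *
          shift (fun n => (w (τ o') n : ℤ)) (lam (τ o')) (-m) =
          (if m = 0 then lam o * lam o' else 0) + (w o m : ℤ) * w o' m := by
        intro m
        by_cases hm : m = 0
        · simp [hm, shift, hw0, hlamτ]
        · have hm' : -m ≠ 0 := neg_ne_zero.2 hm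
          simp only [shift, if_neg hm, if_neg hm', sub_zero, zero_add]
          rw [hneg, show τ (τ o') = o' from Subtype.ext (swapOrb_swapOrb _)]
      rw [Finset.sum_congr rfl fun m _ => hterm m, Finset.sum_add_distrib, Finset.sum_ite_eq',
        if_pos (Finset.mem_univ _)]
    have h3 : ((lam o * lam o' + ∑ m, (w o m : ℤ) * w o' m : ℤ) : ℂ) =
        (p : ℂ)⁻¹ * ∑ j, A (R o) j * A (R (τ o')) j := by
      rw [← hexp, ← h2]; push_cast; rfl
    rw [← hlam, ← hlam, hlamτ] at h
    have hif : ((τ o').1 = swapOrb o.1) ↔ o = o' := by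
      refine ⟨fun e => Subtype.ext ?_, fun e => by rw [e]⟩
      have := congrArg swapOrb e
      simp only [τ, swapOrb_swapOrb] at this
      exact this.symm
    have h4 : ((2 * lam o * lam o' + ∑ m, (w o m : ℤ) * w o' m : ℤ) : ℂ) =
        ((if o = o' then 2 * (valency a o.1 : ℤ) else 0 : ℤ) : ℂ) := by
      rw [if_congr hif rfl rfl] at h
      push_cast at h3 ⊢
      have h3' : (p : ℂ) * ((lam o : ℂ) * lam o' + ∑ m, (w o m : ℂ) * w o' m) =
          ∑ j, A (R o) j * A (R (τ o')) j := by
        rw [h3, mul_inv_cancel_left₀ hp0]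
      split_ifs at h ⊢ with e
      · refine mul_left_cancel₀ hp0 ?_
        push_cast at h
        rw [hcard] at h
        push_cast at h
        linear_combination h3' - h
      · refine mul_left_cancel₀ hp0 ?_
        linear_combination h3' - h
    exact_mod_cast h4
  · intro o o' o''
    obtain ⟨n, hn⟩ := trace_orbR_three a o.1 o'.1 o''.1
    refine ⟨(n : ℤ), ?_⟩
    have hm := mul_mem_invariants (hR o') (hR o'')
    have h := hone (R o * (R o' * R o'')) (mul_mem_invariants (hR o) hm)
    rw [hn, D.L_mul _ _ (hR o) hm, D.L_mul _ _ (hR o') (hR o''), ← hlam, ← hlam, ← hlam,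
      Finset.sum_congr rfl fun j _ => by rw [hA2 _ _ (hR o) hm, hA2 _ _ (hR o') (hR o''), ← mul_assoc]]
      at h
    have h2 := sum_transform_three (A (R o)) (A (R o')) (A (R o''))
    simp only [← hΘ'] at h2
    have h4 : ((lam o * lam o' * lam o'' + tri (shift (fun m => (w o m : ℤ)) (lam o))
        (shift (fun m => (w o' m : ℤ)) (lam o')) (shift (fun m => (w o'' m : ℤ)) (lam o'')) : ℤ) : ℂ) =
        ((2 * (valency a o.1 : ℤ) * (n : ℤ) : ℤ) : ℂ) := by
      rw [tri]
      push_cast
      rw [h2]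
      refine mul_left_cancel₀ hp0 ?_
      rw [hcard] at h
      push_cast at h
      rw [mul_add, mul_inv_cancel_left₀ hp0]
      linear_combination -h
    exact_mod_cast h4

end Rank

section Perm

variable {α : Type v} [Fintype α] [DecidableEq α]

/-- An element of order `p` without fixed points, unless the group is doubly transitive. -/
theorem exists_fixed_point_free (hα : Fintype.card α = 2 * p) (G : Subgroup (Equiv.Perm α))
    (hG : IsPreprimitive G α) :
    IsMultiplyPretransitive G α 2 ∨ ∃ x : G, x ^ p = 1 ∧ ∀ a : α, x • a ≠ a := by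
  classical
  haveI := hG
  have hpG : p ∣ Nat.card G := by
    have : Nonempty α := Fintype.card_pos_iff.1 (by have := hp.out.pos; omega)
    have h := orbit_eq_univ G (Classical.arbitrary α)
    refine (dvd_mul_left p 2).trans (hα ▸ ?_)
    rw [← Nat.card_eq_fintype_card, ← Nat.card_univ (α := α), ← h,
      Nat.card_congr (orbitEquivQuotientStabilizer G _)]
    exact Subgroup.index_dvd_card _
  obtain ⟨g, hg⟩ := exists_prime_orderOf_dvd_card' p hpG
  let σ : Equiv.Perm α := (g : Equiv.Perm α)
  have ho : orderOf σ = p := (Subgroup.orderOf_coe g).trans hg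
  obtain ⟨n, hn⟩ := Equiv.Perm.cycleType_prime_order (σ := σ) (ho ▸ hp.out)
  have hsupp := σ.sum_cycleType
  rw [hn, ho, Multiset.sum_replicate, smul_eq_mul] at hsupp
  have hle : σ.support.card ≤ 2 * p := hα ▸ Finset.card_le_univ _
  rcases Nat.eq_zero_or_pos n with rfl | hn0
  · refine Or.inl ?_
    have hcyc : σ.IsCycle := Equiv.Perm.card_cycleType_eq_one.1 (by rw [hn]; simp)
    rw [zero_add, one_mul] at hsupp
    have halt : alternatingGroup α ≤ G := by
      rcases Nat.lt_or_ge p 3 with h2 | h3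
      · have hp2 : p = 2 := by have := hp.out.two_le; omega
        have hswap : σ.IsSwap := Equiv.Perm.card_support_eq_two.1 (by omega)
        rw [Equiv.Perm.subgroup_eq_top_of_isPreprimitive_of_isSwap_mem hG σ hswap g.2]
        exact le_top
      · exact Cfsg.Agent.S0713.result G hG hp.out (by omega) (by omega) hcyc hsupp.symm g.2
    have h2 := alternatingGroup.isMultiplyPretransitive α
    have h3 : IsMultiplyPretransitive (alternatingGroup α) α 2 := by
      haveI := h2
      exact isMultiplyPretransitive_of_le (n := Nat.card α - 2)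
        (by rw [Nat.card_eq_fintype_card, hα]; have := hp.out.two_le; omega) (by omega)
    rw [is_two_pretransitive_iff] at h3 ⊢
    intro a b c d hab hcd
    obtain ⟨k, h1, h2⟩ := h3 hab hcd
    exact ⟨⟨k, halt k.2⟩, h1, h2⟩
  · refine Or.inr ⟨g, hg ▸ pow_orderOf_eq_one g, fun a ha => ?_⟩
    have h2p : 2 * p ≤ (n + 1) * p := Nat.mul_le_mul_right p (by omega)
    have huniv : σ.support = Finset.univ := Finset.eq_univ_of_card _ (by omega)
    exact Equiv.Perm.mem_support.1 (huniv ▸ Finset.mem_univ a : a ∈ σ.support) ha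

/-- **Wielandt's theorem** on primitive groups of degree `2 p`. -/
theorem main (hα : Fintype.card α = 2 * p) (G : Subgroup (Equiv.Perm α))
    (hG : IsPreprimitive G α) (a₀ : α) :
    IsMultiplyPretransitive G α 2 ∨ (Nat.card (orbitRel.Quotient (stabilizer G a₀) α) = 3 ∧
      ∃ a : ℕ, 0 < a ∧ p = 2 * a ^ 2 + 2 * a + 1 ∧ ∀ b : α, b ≠ a₀ →
        Nat.card (orbit (stabilizer G a₀) b) = a * (2 * a + 1) ∨
        Nat.card (orbit (stabilizer G a₀) b) = (a + 1) * (2 * a + 1)) := by
  classical
  rcases exists_fixed_point_free hα G hG with h | ⟨x, hx, hfix⟩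
  · exact Or.inl h
  haveI := hG
  haveI : Nonempty α := ⟨a₀⟩
  haveI : Fintype G := Fintype.ofFinite G
  rcases constituents (G := G) hα hx hfix with h | ⟨h, χ₁, χ₂, h₁, h₂, hπ, hd₁, hd₂⟩ |
    ⟨s, H, hs, hH, hr, -, ⟨D⟩⟩
  · refine Or.inl ?_
    rw [← card_orbits_pairs a₀, Nat.card_eq_two_iff] at h
    obtain ⟨q₁, q₂, -, hq⟩ := h
    have hsame : ∀ b c : α, b ≠ a₀ → c ≠ a₀ →
        (Quotient.mk'' b : orbitRel.Quotient (stabilizer G a₀) α) = Quotient.mk'' c := by
      intro b c hb hc
      have hne : ∀ b : α, b ≠ a₀ →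
          (Quotient.mk'' b : orbitRel.Quotient (stabilizer G a₀) α) ≠ Quotient.mk'' a₀ := by
        intro b hb e
        obtain ⟨k, hk⟩ := Quotient.exact' e
        exact hb (hk.symm.trans k.2)
      have hall : ∀ q : orbitRel.Quotient (stabilizer G a₀) α, q = q₁ ∨ q = q₂ := fun q => by
        have := hq.symm ▸ Set.mem_univ q
        simpa using this
      have := hne b hb
      have := hne c hc
      rcases hall (Quotient.mk'' b) with e | e <;> rcases hall (Quotient.mk'' c) with e' | e' <;>
        rcases hall (Quotient.mk'' a₀) with e'' | e'' <;> simp_all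
    rw [is_two_pretransitive_iff]
    intro a b c d hab hcd
    obtain ⟨g, hg⟩ := exists_smul_eq G a a₀
    obtain ⟨k, hk⟩ := exists_smul_eq G a₀ c
    have hgb : g • b ≠ a₀ := fun e => hab (smul_left_cancel g (hg.trans e.symm))
    have hkd : k⁻¹ • d ≠ a₀ := fun e => hcd (by rw [← hk, ← e, smul_inv_smul])
    obtain ⟨l, hl⟩ := Quotient.exact' (hsame _ _ hkd hgb)
    refine ⟨k * (l : G) * g, ?_, ?_⟩
    · rw [mul_smul, mul_smul, hg, mem_stabilizer_iff.1 l.2, hk]
    · have hl' : (l : G) • g • b = k⁻¹ • d := hl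
      rw [mul_smul, mul_smul, hl', smul_inv_smul]
  · rw [← card_orbits_pairs a₀] at h
    exact Or.inr ⟨h, WielandtRankThree.main hG hα a₀ h χ₁ χ₂ h₁ h₂ hπ hd₁ hd₂⟩
  · exact (not_rank_ge_four hα hx hfix hs hH hr D).elim

end Perm

end CfsgLib.TwoPrime
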