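/-
A primitive group of degree `2 p`, not doubly transitive, with Sylow normaliser of order `2 p`,
is `A₅` of degree `10`.
-/
import Cfsg.Agent.Perm.TwoPrime.SmallNormalizer
import Cfsg.Agent.Perm.TwoPrime.Main
import Cfsg.Agent.Char.PowTwist
import Cfsg.Agent.Char.Galois
import Cfsg.Agent.Char.Kernel
import Cfsg.Agent.Char.CoprimeComplement
import Cfsg.Agent.Blocks.DefectZeroVanish
import Cfsg.Agent.Dickson.OrderSixty
import Mathlib.GroupTheory.Transfer
import Mathlib.Data.Nat.Factorial.Basic

set_option autoImplicit false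
set_option linter.style.haveILetI false
set_option linter.unusedSectionVars false

namespace CfsgLib.TwoPrime

open MulAction CfsgLib.Char CfsgLib.CentralizerRing
open scoped ComplexConjugate

universe v

variable {p : ℕ} [hp : Fact p.Prime]
variable {α : Type v} [Fintype α] [DecidableEq α]

/-- A subgroup of order `p` with normaliser of order `2 p` gives dihedral data, or a normal
`p`-complement. -/
theorem exists_dih {G : Type v} [Group G] [Finite G] {x : G} (h2 : p ≠ 2) (hx : x ^ p = 1)
    (hx1 : x ≠ 1) (Q : Sylow p G) (hQ : (Q : Subgroup G) = Subgroup.zpowers x)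
    (hN : Nat.card (Subgroup.normalizer ((Q : Subgroup G) : Set G)) = 2 * p) :
    (∃ t, Dih p x t) ∨
      ∃ K : Subgroup G, K.Normal ∧ ¬ p ∣ Nat.card K ∧ Nat.card K * p = Nat.card G := by
  classical
  set X := Subgroup.zpowers x with hX
  set N := Subgroup.normalizer ((Q : Subgroup G) : Set G)
  have hXc : Nat.card X = p := card_zpowers_x hx hx1
  have hXN : X ≤ N := hQ ▸ Subgroup.le_normalizer
  have hidx : (X.subgroupOf N).index = 2 := by
    have h := (X.subgroupOf N).card_mul_index
    rw [Nat.card_congr (Subgroup.subgroupOfEquivOfLe hXN).toEquiv, hXc, hN, mul_comm 2 p] at h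
    exact Nat.eq_of_mul_eq_mul_left hp.out.pos h
  haveI : Fact (Nat.Prime 2) := ⟨Nat.prime_two⟩
  obtain ⟨s, hs⟩ := exists_prime_orderOf_dvd_card' (G := N) 2 (by rw [hN]; exact dvd_mul_right 2 p)
  set t : G := (s : G) with ht
  have hto : orderOf t = 2 := by rw [ht, Subgroup.orderOf_coe, hs]
  have htsq : t * t = 1 := by
    have h := pow_orderOf_eq_one t
    rwa [hto, sq] at h
  have ht1 : t ≠ 1 := fun h => by simp [h] at hto
  have htX : t ∉ X := fun h => by
    have hd := Subgroup.orderOf_dvd_natCard X h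
    rw [hto, hXc, Nat.prime_dvd_prime_iff_eq Nat.prime_two hp.out] at hd
    exact h2 hd.symm
  have htinv : t⁻¹ = t := inv_eq_of_mul_eq_one_right htsq
  have hsplit : ∀ g ∈ N, g ∈ X ∨ g * t ∈ X := by
    intro g hg
    by_cases h : g ∈ X
    · exact Or.inl h
    · refine Or.inr ?_
      have := (Subgroup.mul_mem_iff_of_index_two hidx (a := ⟨g, hg⟩) (b := s)).2
        ⟨fun h' => absurd h' h, fun h' => absurd h' htX⟩
      exact this
  have hmemN : ∀ g : G, g * x * g⁻¹ ∈ X → g ∈ N := by
    intro g hg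
    rw [Subgroup.mem_normalizer_iff, hQ]
    have hle : X.map (MulAut.conj g).toMonoidHom ≤ X := by
      rw [hX, MonoidHom.map_zpowers, Subgroup.zpowers_le]; exact hg
    have heq : X.map (MulAut.conj g).toMonoidHom = X := Subgroup.eq_of_le_of_card_ge hle
      (le_of_eq (Nat.card_congr (X.equivMapOfInjective _ (MulAut.conj g).injective).toEquiv))
    intro h
    constructor
    · intro hh
      rw [← heq]; exact ⟨h, hh, rfl⟩
    · intro hh
      rw [← heq] at hh
      obtain ⟨y, hy, hy'⟩ := hh
      have : y = h := (MulAut.conj g).injective hy'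
      exact this ▸ hy
  obtain ⟨c, hc⟩ := (mem_zpowers_xpow hx).1 (show t * x * t⁻¹ ∈ X from by
    have := (Subgroup.mem_normalizer_iff.1 s.2 x).1 (hQ ▸ Subgroup.mem_zpowers x)
    exact hQ ▸ this)
  have hc2 : c * c = 1 := by
    apply xpow_injective hx hx1
    have h1 : t * xpow x c * t⁻¹ = x := by
      rw [hc, htinv, show t * (t * x * t) * t = t * t * x * (t * t) by group, htsq, one_mul, mul_one]
    have h2' : t * xpow x c * t⁻¹ = xpow x (c * c) := by
      conv_lhs => rw [xpow, ← conj_pow, ← hc, xpow_pow hx, ZMod.natCast_zmod_val]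
    rw [← h2', h1, xpow_one]
  rcases mul_self_eq_one_iff.1 hc2 with h | h
  · right
    rw [h, xpow_one] at hc
    have hcomm : Commute t x := by
      show t * x = x * t
      have := congrArg (· * t) hc
      simp only [mul_assoc, inv_mul_cancel, mul_one] at this
      exact this.symm
    have hle : N ≤ Subgroup.centralizer ((Q : Subgroup G) : Set G) := by
      intro g hg
      rw [Subgroup.mem_centralizer_iff]
      intro y hy
      have hy' : y ∈ X := hQ ▸ hy
      obtain ⟨i, rfl⟩ := (mem_zpowers_xpow hx).1 hy'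
      have hgx : Commute g x := by
        rcases hsplit g hg with hg' | hg'
        · obtain ⟨j, rfl⟩ := (mem_zpowers_xpow hx).1 hg'
          exact Commute.pow_left (Commute.refl x) _
        · obtain ⟨j, hj⟩ := (mem_zpowers_xpow hx).1 hg'
          have : g = xpow x j * t := by rw [hj, mul_assoc, htsq, mul_one]
          rw [this]
          exact Commute.mul_left (Commute.pow_left (Commute.refl x) _) hcomm
      exact ((hgx.pow_right _).eq).symm
    refine ⟨(MonoidHom.transferSylow Q hle).ker, inferInstance,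
      MonoidHom.not_dvd_card_ker_transferSylow Q hle, ?_⟩
    have h := (MonoidHom.ker_transferSylow_isComplement' Q hle).card_mul_card
    rwa [Nat.card_congr (MulEquiv.subgroupCongr hQ).toEquiv, hXc] at h
  · left
    refine ⟨t, hx, hx1, htsq, ht1, ?_, fun g hg => hsplit g (hmemN g hg)⟩
    have h' : xpow x c = t * x * t := by rw [hc, htinv]
    rw [← h', h, xpow_neg hx, xpow_one]

theorem normalizer_two_p (h3 : 3 < p) (hα : Fintype.card α = 2 * p) (G : Subgroup (Equiv.Perm α))
    (hprim : IsPreprimitive G α) (hnot2 : ¬ IsMultiplyPretransitive G α 2) (P : Sylow p G)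
    (hN : Nat.card (Subgroup.normalizer ((P : Subgroup G) : Set G)) = 2 * p) :
    p = 5 ∧ Nonempty (G ≃* alternatingGroup (Fin 5)) := by
  classical
  haveI := hprim
  haveI : Fintype G := Fintype.ofFinite G
  have h2 : p ≠ 2 := by omega
  obtain ⟨a₀⟩ : Nonempty α := Fintype.card_pos_iff.1 (by omega)
  haveI : Nonempty α := ⟨a₀⟩
  obtain ⟨x, hx, hfix⟩ := (exists_fixed_point_free hα G hprim).resolve_left hnot2
  obtain ⟨-, a, ha0, hpa, -⟩ := (main hα G hprim a₀).resolve_left hnot2
  have hx1 : x ≠ 1 := fun h => hfix a₀ (by rw [h, one_smul])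
  have hxo : orderOf x = p := orderOf_eq_prime hx hx1
  have hpG : p ∣ Nat.card G := hxo ▸ orderOf_dvd_natCard x
  have hPc : Nat.card (P : Subgroup G) = p := by
    obtain ⟨k, hk, hk'⟩ : ∃ k, k ≠ 0 ∧ Nat.card (P : Subgroup G) = p ^ k :=
      ⟨_, (Nat.Prime.factorization_pos_of_dvd hp.out Nat.card_pos.ne' hpG).ne', P.card_eq_multiplicity⟩
    have hd : p ^ k ∣ 2 * p := hk' ▸ hN ▸ Subgroup.card_dvd_of_le Subgroup.le_normalizer
    have hk1 : k ≤ 1 := by
      by_contra h
      have h' : p ^ 2 ∣ 2 * p := (pow_dvd_pow p (by omega)).trans hd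
      rw [sq] at h'
      have h'' := Nat.dvd_of_mul_dvd_mul_right hp.out.pos h'
      have := Nat.le_of_dvd (by norm_num) h''
      omega
    rw [hk', show k = 1 by omega, pow_one]
  have hfact : (Nat.card G).factorization p = 1 := by
    have h := P.card_eq_multiplicity
    rw [hPc] at h
    exact ((Nat.pow_eq_self_iff hp.out.one_lt).1 h.symm)
  obtain ⟨Q, hQle⟩ := (IsPGroup.of_card (n := 1) (G := Subgroup.zpowers x)
    (by rw [pow_one, Nat.card_zpowers, hxo])).exists_le_sylow
  have hQ : (Q : Subgroup G) = Subgroup.zpowers x := (Subgroup.eq_of_le_of_card_ge hQle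
    (le_of_eq (by rw [Nat.card_zpowers, hxo, Q.card_eq_multiplicity, hfact, pow_one]))).symm
  have hNQ : Nat.card (Subgroup.normalizer ((Q : Subgroup G) : Set G)) = 2 * p := by
    refine Eq.trans ?_ hN
    have h1 := (Subgroup.normalizer ((Q : Subgroup G) : Set G)).card_mul_index
    have h2 := (Subgroup.normalizer ((P : Subgroup G) : Set G)).card_mul_index
    have e1 : (Subgroup.normalizer ((Q : Subgroup G) : Set G)).index = Nat.card (Sylow p G) :=
      Q.card_eq_index_normalizer.symm
    have e2 : (Subgroup.normalizer ((P : Subgroup G) : Set G)).index = Nat.card (Sylow p G) :=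
      P.card_eq_index_normalizer.symm
    rw [e1] at h1
    rw [e2] at h2
    exact Nat.eq_of_mul_eq_mul_right Nat.card_pos (h1.trans h2.symm)
  have htrans : ∀ K : Subgroup G, K.Normal → K ≠ ⊥ → p ∣ Nat.card K := by
    intro K hK hne
    haveI := hK
    have hne' : fixedPoints K α ≠ Set.univ := by
      intro h
      refine hne ((Subgroup.eq_bot_iff_forall _).2 fun k hk => ?_)
      refine Subtype.ext (Equiv.ext fun b => ?_)
      exact (Set.eq_univ_iff_forall.1 h b) ⟨k, hk⟩
    haveI : IsPretransitive K α := IsQuasiPreprimitive.isPretransitive_of_normal (G := G) hne'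
    have h := index_stabilizer_of_transitive K a₀
    rw [Nat.card_eq_fintype_card, hα] at h
    exact (dvd_mul_left p 2).trans (h ▸ Subgroup.index_dvd_card _)
  obtain ⟨t, D⟩ : ∃ t, Dih p x t := by
    refine (exists_dih h2 hx hx1 Q hQ hNQ).resolve_right ?_
    rintro ⟨K, hK, hnd, hcard⟩
    rcases eq_or_ne K ⊥ with rfl | hne
    · rw [Subgroup.card_bot, one_mul] at hcard
      have h := index_stabilizer_of_transitive G a₀
      rw [Nat.card_eq_fintype_card, hα] at h
      have hd : 2 * p ∣ p := by
        rw [← h]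
        conv_rhs => rw [hcard]
        exact Subgroup.index_dvd_card _
      have := Nat.le_of_dvd hp.out.pos hd
      omega
    · exact hnd (htrans K hK hne)
  have hxm : ∀ m : ZMod p, m ≠ 0 → ∀ b : α, xpow x m • b ≠ b := by
    intro m hm b hb
    refine hfix b ?_
    have h1 : xpow x m ^ (m⁻¹).val ∈ stabilizer G b := (stabilizer G b).pow_mem hb _
    rwa [xpow_pow hx, ZMod.natCast_zmod_val, inv_mul_cancel₀ hm, xpow_one] at h1
  rcases constituents (G := G) hα hx hfix with h | ⟨-, θ, χ₂, hθ, h₂, hπ, hd₁, hd₂⟩ |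
    ⟨s, H, hs, hH, hr, -, -⟩
  · exfalso
    obtain ⟨h3', -⟩ := (main hα G hprim a₀).resolve_left hnot2
    rw [card_orbits_pairs a₀, h] at h3'
    omega
  swap
  · exfalso
    obtain ⟨h3', -⟩ := (main hα G hprim a₀).resolve_left hnot2
    rw [card_orbits_pairs a₀, hr] at h3'
    omega
  have hxmo : ∀ m : ZMod p, m ≠ 0 → orderOf (xpow x m) = p := fun m hm =>
    orderOf_eq_prime (by rw [xpow_pow hx, ZMod.natCast_self, zero_mul, xpow_zero])
      (xpow_ne_one hx hx1 hm)
  have hθx : ∀ m : ZMod p, m ≠ 0 → θ (xpow x m) = -1 := by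
    intro m hm
    have h0 : χ₂ (xpow x m) = 0 := Block.eq_zero_of_defectZero hp.out ⟨χ₂, h₂⟩ (by
      show _ ∣ Cfsg.charDegree χ₂
      rw [CfsgLib.Char.charDegree_eq_natCast hd₂, hfact, pow_one]) (by rw [hxmo m hm])
    have h := congrFun hπ (xpow x m)
    have hz : pi G α (xpow x m) = 0 := by
      have : fixedBy α (xpow x m) = ∅ := Set.eq_empty_iff_forall_notMem.2 fun b hb => hxm m hm b hb
      rw [pi, this]; simp
    rw [hz, h0] at h
    linear_combination -h
  have hint : ∀ g : G, ∃ k : ℤ, θ g = k := by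
    intro g
    refine IsCharacter.exists_int_apply (IsIrrCharacter.isCharacter hθ) fun k hk => ?_
    have hirr := PowTwist.isIrrCharacter_pow hk hθ
    have hpi : (fun g => pi G α (g ^ k)) = pi G α := funext fun g => by
      rw [pi, pi, fixedBy_pow hk]
    have hne : ∀ {φ ψ : G → ℂ}, φ 1 ≠ ψ 1 → φ ≠ ψ := fun h e => h (congrFun e 1)
    have h01 : (1 : ℂ) ≠ (p : ℂ) - 1 := fun e => by
      have h' : ((2 : ℕ) : ℂ) = (p : ℕ) := by push_cast; linear_combination e
      exact h2 (Nat.cast_injective h').symm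
    have h12 : (p : ℂ) - 1 ≠ p := fun e => one_ne_zero (α := ℂ) (by linear_combination -e)
    have hπθ : Cfsg.classInner (pi G α) θ = 1 := by
      rw [hπ, show (fun g : G => 1 + θ g + χ₂ g) = (fun _ => (1 : ℂ)) + θ + χ₂ from rfl,
        classInner_add_left, classInner_add_left, IsIrrCharacter.classInner_self hθ,
        IsIrrCharacter.classInner_of_ne isIrrCharacter_one hθ (hne (by rw [hd₁]; exact h01)),
        IsIrrCharacter.classInner_of_ne h₂ hθ (hne (by rw [hd₁, hd₂]; exact h12.symm))]
      ring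
    have h := PowTwist.classInner_pow hk (pi G α) θ
    rw [hpi, hπθ, hπ, show (fun g : G => 1 + θ g + χ₂ g) = (fun _ => (1 : ℂ)) + θ + χ₂ from rfl,
      classInner_add_left, classInner_add_left,
      IsIrrCharacter.classInner_of_ne isIrrCharacter_one hirr
        (hne (by simp only [one_pow, hd₁]; exact h01)),
      IsIrrCharacter.classInner_of_ne h₂ hirr
        (hne (by simp only [one_pow, hd₁, hd₂]; exact h12.symm)),
      IsIrrCharacter.classInner_eq hθ hirr, zero_add, add_zero] at h
    by_cases he : θ = fun g => θ (g ^ k)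
    · exact (congrFun he g).symm
    · rw [if_neg he] at h; exact absurd h zero_ne_one
  have hθc := IsIrrCharacter.isCharacter hθ
  have hker : ∀ g : G, θ g = θ 1 → g = 1 := by
    intro g hg
    by_contra hg1
    haveI := kerSubgroup_normal hθc
    obtain ⟨y, hy⟩ := exists_prime_orderOf_dvd_card' p (htrans _ (kerSubgroup_normal hθc)
      (fun h => hg1 ((Subgroup.eq_bot_iff_forall _).1 h g hg)))
    obtain ⟨R, hR⟩ := (IsPGroup.of_card (n := 1) (G := Subgroup.zpowers (y : G))
      (by rw [pow_one, Nat.card_zpowers, Subgroup.orderOf_coe, hy])).exists_le_sylow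
    obtain ⟨c, hc⟩ := MulAction.exists_smul_eq G R Q
    have hmem : c * (y : G) * c⁻¹ ∈ Subgroup.zpowers x := by
      rw [← hQ, ← hc]
      exact Subgroup.smul_mem_pointwise_smul _ (MulAut.conj c) _ (hR (Subgroup.mem_zpowers _))
    obtain ⟨m, hm⟩ := (mem_zpowers_xpow hx).1 hmem
    rcases eq_or_ne m 0 with rfl | hm0
    · rw [xpow_zero] at hm
      have : (y : G) = 1 := by
        have h' := congrArg (fun z => c⁻¹ * z * c) hm
        simpa [mul_assoc] using h'.symm
      rw [OneMemClass.coe_eq_one] at this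
      rw [this, orderOf_one] at hy
      exact hp.out.one_lt.ne hy
    · have h := hθx m hm0
      rw [hm, IsCharacter.isClassFunction hθc (y : G) c, (mem_kerSubgroup hθc _).1 y.2, hd₁] at h
      have h' : ((p : ℕ) : ℂ) = ((0 : ℕ) : ℂ) := by push_cast; linear_combination h
      exact hp.out.ne_zero (Nat.cast_injective h')
  have hclass := D.class_equation h3 hθ hd₁ hθx
  have hpow := D.pred_eq_two_pow h3 hθ hd₁ hθx hker hint
  have hodd := D.odd_class h3 hθ hd₁ hθx hker
  have ha1 : a = 1 := by
    by_contra ha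
    set v := (Nat.card G).factorization 2
    have h4 : a * (a + 1) ∣ 2 ^ v := ⟨2, by rw [← hpow, hpa]; ring_nf; omega⟩
    obtain ⟨i, -, hi⟩ := (Nat.dvd_prime_pow Nat.prime_two).1 ((dvd_mul_right a (a + 1)).trans h4)
    obtain ⟨j, -, hj⟩ := (Nat.dvd_prime_pow Nat.prime_two).1 ((dvd_mul_left (a + 1) a).trans h4)
    rcases Nat.eq_zero_or_pos i with rfl | hi0
    · exact ha (by simpa using hi)
    rcases Nat.eq_zero_or_pos j with rfl | hj0
    · simp at hj; omega
    obtain ⟨i', rfl⟩ := Nat.exists_eq_add_of_lt hi0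
    obtain ⟨j', rfl⟩ := Nat.exists_eq_add_of_lt hj0
    simp only [zero_add, pow_succ] at hi hj
    omega
  have hp5 : p = 5 := by rw [hpa, ha1]; norm_num
  refine ⟨hp5, ?_⟩
  subst hp5
  set K := Nat.card {g : G // IsConj t g}
  have hG1 : 4 * K ^ 2 = 15 * Nat.card G := by
    have h := hclass
    norm_num at h
    linarith
  have h15 : 15 ∣ K := by
    have h3' : 3 ∣ K := Nat.prime_three.dvd_of_dvd_pow (n := 2)
      ((Nat.Coprime.dvd_mul_left (by norm_num : Nat.Coprime 3 4)).1
        ⟨5 * Nat.card G, by rw [hG1]; ring⟩)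
    have h5' : 5 ∣ K := (Nat.prime_five).dvd_of_dvd_pow (n := 2)
      ((Nat.Coprime.dvd_mul_left (by norm_num : Nat.Coprime 5 4)).1
        ⟨3 * Nat.card G, by rw [hG1]; ring⟩)
    exact Nat.Coprime.mul_dvd_of_dvd_of_dvd (by norm_num : Nat.Coprime 3 5) h3' h5'
  obtain ⟨q, hq⟩ := h15
  have hG : Nat.card G = 60 * q ^ 2 := by rw [hq] at hG1; linarith
  have hsyl : Nat.card (Sylow 5 G) = 6 * q ^ 2 := by
    have h := (Subgroup.normalizer ((Q : Subgroup G) : Set G)).card_mul_index
    have e1 : (Subgroup.normalizer ((Q : Subgroup G) : Set G)).index = Nat.card (Sylow 5 G) :=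
      Q.card_eq_index_normalizer.symm
    rw [e1, hNQ, hG] at h
    omega
  have hmod := card_sylow_modEq_one 5 G
  rw [hsyl, Nat.ModEq] at hmod
  have hdvd : 60 * q ^ 2 ∣ Nat.factorial 10 := by
    have h := G.card_subgroup_dvd_card
    rw [hG, Nat.card_perm, Nat.card_eq_fintype_card, hα] at h
    exact h
  have hq1 : q = 1 := by
    have hd : q ^ 2 ∣ 60480 := by
      rw [show Nat.factorial 10 = 60 * 60480 by rfl] at hdvd
      exact Nat.dvd_of_mul_dvd_mul_left (by norm_num) hdvd
    have hqodd : ¬ 2 ∣ q := fun h => hodd (h.trans ⟨15, by rw [hq]; ring⟩)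
    have hle : q ≤ 245 := by
      have := Nat.le_of_dvd (by norm_num) hd
      nlinarith
    interval_cases q <;> revert hd hmod hqodd <;> decide
  subst hq1
  refine Dickson.OrderSixty.nonempty_mulEquiv (by rw [hG]; norm_num) Q fun hnor => ?_
  rw [Subgroup.normalizer_eq_top_iff.2 hnor, Subgroup.card_top, hG] at hNQ
  norm_num at hNQ

end CfsgLib.TwoPrime
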